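import Cfsg.Agent.Lib.JordanField.Contradiction

/-!
# Finite inverse-closed additive sets of endomorphisms are fields

An additive subgroup of `End A` (`A` finite of exponent `p`) containing `1` and the inverse of each of
its nonzero elements is a commutative subring.
-/

set_option autoImplicit false

namespace Cfsg.Agent.JordanField

variable {A : Type*} [AddCommGroup A] [Finite A]

theorem commute_and_mul_mem {p : ℕ} [hp : Fact p.Prime] (hpA : ∀ a : A, p • a = 0)
    {L : AddSubgroup (AddMonoid.End A)} (hL : InvClosed L) :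
    ∀ a ∈ L, ∀ b ∈ L, a * b = b * a ∧ a * b ∈ L := by
  classical
  rcases subsingleton_or_nontrivial A with hA | hA
  · intro a _ b _
    exact ⟨DFunLike.ext _ _ fun x => Subsingleton.elim _ _,
      by rw [show a * b = 0 from DFunLike.ext _ _ fun x => Subsingleton.elim _ _]; exact zero_mem L⟩
  have : Finite (AddMonoid.End A) := Finite.of_injective _ DFunLike.coe_injective
  have hpR : ∀ r : AddMonoid.End A, p • r = 0 := fun r => DFunLike.ext _ _ fun x => by
    show p • r x = 0
    exact hpA _
  let Good : Subring (AddMonoid.End A) → Prop := fun S =>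
    (∀ x ∈ S, x ∈ L) ∧ ∀ x ∈ S, ∀ y ∈ S, x * y = y * x
  have hbot : Good ⊥ := by
    constructor
    · intro x hx
      obtain ⟨n, rfl⟩ := Subring.mem_bot.mp hx
      rw [← zsmul_one]
      exact zsmul_mem hL.one n
    · intro x hx y _
      obtain ⟨n, rfl⟩ := Subring.mem_bot.mp hx
      exact (Int.cast_commute n y).eq
  have : Finite (Subring (AddMonoid.End A)) := Finite.of_injective _ SetLike.coe_injective
  obtain ⟨K, -, hK⟩ := Finite.exists_le_maximal (p := Good) hbot
  have hKL := hK.prop.1
  have hKc := hK.prop.2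
  have hnt : (1 : AddMonoid.End A) ≠ 0 := fun e => by
    obtain ⟨a, ha⟩ := exists_ne (0 : A)
    exact ha (DFunLike.congr_fun e a)
  have hnd : ∀ x ∈ K, x ≠ 0 → ∀ y, x * y = 0 → y = 0 := by
    intro x hx hx0 y hy
    obtain ⟨x', -, -, hx'⟩ := hL.inv x (hKL x hx) hx0
    calc y = (x' * x) * y := by rw [hx', one_mul]
      _ = 0 := by rw [mul_assoc, hy, mul_zero]
  let _ : CommRing ↥K := { (inferInstance : Ring ↥K) with
    mul_comm := fun x y => Subtype.ext (hKc x x.2 y y.2) }
  have : Nontrivial ↥K := ⟨1, 0, fun e => hnt (congrArg Subtype.val e)⟩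
  have : NoZeroDivisors ↥K := ⟨fun {x y} e => or_iff_not_imp_left.mpr fun hx => Subtype.ext
    (hnd x x.2 (fun e0 => hx (Subtype.ext e0)) y (congrArg Subtype.val e))⟩
  have : IsDomain ↥K := NoZeroDivisors.to_isDomain _
  let _ : Field ↥K := (Finite.isField_of_domain ↥K).toField
  have hchar : CharP ↥K p :=
    (CharP.charP_iff_prime_eq_zero hp.out).mpr (Subtype.ext (by
      have := hpR 1
      rw [nsmul_one] at this
      simpa using this))
  let _ : Algebra (ZMod p) ↥K := ZMod.algebra _ p
  let ι : ↥K →+* AddMonoid.End A := K.subtype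
  have hι : ∀ k, ι k ∈ L := fun k => hKL k k.2
  have hmax : IsMax ι L := by
    intro x hx hxc
    have hkx : ∀ k : ↥K, ∀ y ∈ L, (ι k) * y = y * (ι k) → ι k * y ∈ L := by
      intro k y hy hcy
      rcases eq_or_ne p 2 with hp2 | hp2
      · subst hp2
        let _ : Fintype ↥K := Fintype.ofFinite _
        obtain ⟨q, hq⟩ : ∃ q, k = q * q := by
          obtain ⟨q, hq⟩ := (FiniteField.isSquare_of_char_two (F := ↥K) (ringChar.eq ↥K 2) k)
          exact ⟨q, hq⟩
        subst hq
        rcases eq_or_ne q 0 with rfl | hq0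
        · simp
        -- `q y q` is `q * q * y` once `q` commutes with `y`
        obtain ⟨j, hj⟩ : ∃ j : ℕ, q = (q * q) ^ j := by
          refine ⟨Fintype.card ↥K / 2, ?_⟩
          have he : 2 ∣ Fintype.card ↥K := by
            obtain ⟨n, -, hn⟩ := FiniteField.card ↥K 2
            exact hn ▸ dvd_pow_self 2 n.ne_zero
          rw [← pow_two, ← pow_mul, Nat.mul_div_cancel' he, FiniteField.pow_card]
        have hqy : ι q * y = y * ι q := by
          rw [hj, map_pow]
          exact (Commute.pow_left (show Commute (ι (q * q)) y from hcy) j).eq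
        rw [map_mul, mul_assoc, hqy, ← mul_assoc]
        exact hL.aba (hι q) hy
      · have h1 := hL.symm (hι k) hy
        rw [← hcy] at h1
        obtain ⟨m, hm⟩ := (hp.out.odd_of_ne_two hp2)
        have h2 := nsmul_mem h1 (m + 1)
        rwa [← two_nsmul, ← mul_nsmul', show (m + 1) * 2 = p + 1 by omega, add_nsmul, hpR, one_nsmul,
          zero_add] at h2
    let T : AddSubgroup (AddMonoid.End A) :=
      AddSubgroup.closure {t | ∃ (k : ↥K) (n : ℕ), t = ι k * x ^ n}
    have hcx : ∀ (k : ↥K) (n : ℕ), ι k * x ^ n = x ^ n * ι k := fun k n =>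
      (Commute.pow_right (show Commute (ι k) x from (hxc k).symm) n).eq
    have hTL : ∀ t ∈ T, t ∈ L := by
      intro t ht
      refine AddSubgroup.closure_induction ?_ (zero_mem L) (fun _ _ _ _ a b => add_mem a b)
        (fun _ _ a => neg_mem a) ht
      rintro _ ⟨k, n, rfl⟩
      exact hkx k _ (hL.pow hx n) (hcx k n)
    let S : Subring (AddMonoid.End A) := Subring.closure ((K : Set (AddMonoid.End A)) ∪ {x})
    have hgen : ∀ s ∈ (K : Set (AddMonoid.End A)) ∪ {x}, ∀ t ∈ T, s * t ∈ T := by
      intro s hs t ht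
      refine AddSubgroup.closure_induction ?_ (by simp) (fun _ _ _ _ a b => by
        rw [mul_add]; exact add_mem a b) (fun _ _ a => by rw [mul_neg]; exact neg_mem a) ht
      rintro _ ⟨k, n, rfl⟩
      rcases hs with hs | hs
      · exact AddSubgroup.subset_closure ⟨⟨s, hs⟩ * k, n, by rw [map_mul, mul_assoc]; rfl⟩
      · rw [Set.mem_singleton_iff] at hs
        subst hs
        exact AddSubgroup.subset_closure ⟨k, n + 1, by
          rw [← mul_assoc, hxc k, pow_succ', mul_assoc]⟩
    have hST : ∀ s ∈ S, ∀ t ∈ T, s * t ∈ T := by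
      intro s hs
      refine Subring.closure_induction hgen ?_ ?_ ?_ ?_ ?_ hs
      · intro t _; simp
      · intro t ht; rwa [one_mul]
      · intro a b _ _ ha hb t ht; rw [add_mul]; exact add_mem (ha t ht) (hb t ht)
      · intro a _ ha t ht; rw [neg_mul]; exact neg_mem (ha t ht)
      · intro a b _ _ ha hb t ht; rw [mul_assoc]; exact ha _ (hb t ht)
    have hgood : Good S := by
      constructor
      · intro s hs
        have := hST s hs 1 (AddSubgroup.subset_closure ⟨1, 0, by simp⟩)
        rw [mul_one] at this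
        exact hTL _ this
      · intro a ha b hb
        have hgc : ∀ u ∈ (K : Set (AddMonoid.End A)) ∪ {x}, ∀ v ∈ (K : Set (AddMonoid.End A)) ∪ {x},
            u * v = v * u := by
          rintro u (hu | rfl) v (hv | rfl)
          · exact hKc u hu v hv
          · exact (hxc ⟨u, hu⟩).symm
          · exact hxc ⟨v, hv⟩
          · rfl
        have : IsMulCommutative ↥S := Subring.isMulCommutative_closure hgc
        exact congrArg Subtype.val (mul_comm' (⟨a, ha⟩ : ↥S) ⟨b, hb⟩)
    have hKS : K ≤ S := fun k hk => Subring.subset_closure (Or.inl hk)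
    exact ⟨⟨x, hK.2 hgood hKS (Subring.subset_closure (Or.inr rfl))⟩, rfl⟩
  have hLK : ∀ x ∈ L, ∃ k, ι k = x := by
    intro x hx
    by_contra hc
    push Not at hc
    obtain ⟨α, hα⟩ := exists_isGen (E := ↥K)
    obtain ⟨σ, B, B', h1, h2, h3, h4, h5, h6⟩ := exists_pair (p := p) hL hα hι hmax hx hc
    exact Pair.false ⟨hL, hα, hι, hmax, h1, h2, h3, h4, h5, h6⟩
  intro a ha b hb
  obtain ⟨k, rfl⟩ := hLK a ha
  obtain ⟨l, rfl⟩ := hLK b hb
  rw [← map_mul, ← map_mul, mul_comm]
  exact ⟨rfl, hι _⟩

end Cfsg.Agent.JordanField
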