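import Cfsg.Agent.Lib.JordanField.Semilinear

/-!
Semilinear components of ring elements relative to a finite field acting on both sides.
-/

set_option autoImplicit false
set_option maxHeartbeats 400000

namespace Cfsg.Agent.JordanField

open Polynomial
open scoped Classical

variable {R : Type*} [Ring R] {p : ℕ} [Fact p.Prime] {E : Type*} [Field E] [Finite E]
  [Algebra (ZMod p) E] (ι : E →+* R) (α : E)

/-- `α` is a generator of the multiplicative group. -/
def IsGen : Prop := ∀ k : E, k ≠ 0 → ∃ n : ℕ, α ^ n = k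

omit [Algebra (ZMod p) E] [Fact p.Prime] in
theorem exists_isGen : ∃ α : E, IsGen α := by
  obtain ⟨g, hg⟩ := IsCyclic.exists_monoid_generator (α := Eˣ)
  refine ⟨g, fun k hk => ?_⟩
  obtain ⟨n, hn⟩ := Submonoid.mem_powers_iff (Units.mk0 k hk) g |>.mp (hg _)
  exact ⟨n, by rw [← Units.val_pow_eq_pow_val, hn]; rfl⟩

theorem algEquiv_ext {α : E} (hα : IsGen α) {σ τ : E ≃ₐ[ZMod p] E} (h : σ α = τ α) : σ = τ := by
  refine AlgEquiv.ext fun k => ?_
  rcases eq_or_ne k 0 with rfl | hk
  · simp
  obtain ⟨n, rfl⟩ := hα k hk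
  rw [map_pow, map_pow, h]

/-- Semilinearity can be checked on the generator. -/
theorem sl_of_gen {α : E} (hα : IsGen α) {σ : E ≃ₐ[ZMod p] E} {x : R}
    (h : x * ι α = ι (σ α) * x) : SL ι σ x := by
  intro k
  rcases eq_or_ne k 0 with rfl | hk
  · simp
  obtain ⟨n, rfl⟩ := hα k hk
  induction n with
  | zero => simp
  | succ n ih =>
    rcases eq_or_ne α 0 with h0 | h0
    · simp [h0]
    rw [pow_succ, map_mul, ← mul_assoc, ih (pow_ne_zero _ h0), mul_assoc, h, ← mul_assoc, ← map_mul,
      ← map_mul]

/-- Left coefficients, right powers of `ι α`. -/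
noncomputable def theta (x : R) : E[X] →+ R where
  toFun h := h.sum fun n c => ι c * x * ι α ^ n
  map_zero' := sum_zero_index _
  map_add' f g := sum_add_index _ _ _ (fun i => by simp) fun i a b => by simp [add_mul]

theorem theta_monomial (x : R) (n : ℕ) (c : E) :
    theta ι α x (monomial n c) = ι c * x * ι α ^ n := by
  show (monomial n c).sum (fun n c => ι c * x * ι α ^ n) = _
  rw [sum_monomial_index _ _ (by simp)]

theorem theta_one (x : R) : theta ι α x 1 = x := by
  have := theta_monomial ι α x 0 1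
  simpa using this

theorem theta_C_mul (x : R) (c : E) (h : E[X]) :
    theta ι α x (C c * h) = ι c * theta ι α x h := by
  induction h using Polynomial.induction_on' with
  | add f g hf hg => rw [mul_add, map_add, map_add, hf, hg, mul_add]
  | monomial n d =>
    rw [C_mul_monomial, theta_monomial, theta_monomial, map_mul]
    simp only [mul_assoc]

theorem theta_X_mul (x : R) (h : E[X]) : theta ι α x (X * h) = theta ι α x h * ι α := by
  induction h using Polynomial.induction_on' with
  | add f g hf hg => rw [mul_add, map_add, map_add, hf, hg, add_mul]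
  | monomial n d =>
    rw [X_mul_monomial, theta_monomial, theta_monomial, pow_succ]
    simp only [mul_assoc]

theorem theta_map (x : R) (g : (ZMod p)[X]) :
    theta ι α x (g.map (algebraMap (ZMod p) E)) = x * ι (aeval α g) := by
  induction g using Polynomial.induction_on' with
  | add f g hf hg => rw [Polynomial.map_add, map_add, hf, hg, map_add, map_add, mul_add]
  | monomial n d =>
    rw [Polynomial.map_monomial, theta_monomial, aeval_monomial, map_mul, map_pow, ← mul_assoc]
    congr 1
    obtain ⟨m, rfl⟩ : ∃ m : ℕ, (m : ZMod p) = d := ⟨d.val, ZMod.natCast_zmod_val d⟩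
    rw [map_natCast, map_natCast]
    exact (Nat.cast_commute m x).eq

/-- The automorphisms as nodes. -/
noncomputable def node (σ : E ≃ₐ[ZMod p] E) : E := σ α

/-- The component of `x` which is `σ`-semilinear. -/
noncomputable def comp (σ : E ≃ₐ[ZMod p] E) : R →+ R where
  toFun x := theta ι α x (Lagrange.basis Finset.univ (node α) σ)
  map_zero' := by
    induction Lagrange.basis Finset.univ (node α) σ using Polynomial.induction_on' with
    | add f g hf hg => rw [map_add, hf, hg, add_zero]
    | monomial n d => simp [theta_monomial]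
  map_add' x y := by
    induction Lagrange.basis Finset.univ (node α) σ using Polynomial.induction_on' with
    | add f g hf hg => simp only [map_add, hf, hg]; abel
    | monomial n d => simp [theta_monomial, mul_add, add_mul]

variable {ι} {α}

theorem node_injOn (hα : IsGen α) :
    Set.InjOn (node (p := p) α) ((Finset.univ : Finset (E ≃ₐ[ZMod p] E)) : Set _) :=
  fun _ _ _ _ h => algEquiv_ext hα h

theorem sum_comp (hα : IsGen α) (x : R) : ∑ σ : E ≃ₐ[ZMod p] E, comp ι α σ x = x := by
  show ∑ σ, theta ι α x (Lagrange.basis Finset.univ (node α) σ) = x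
  rw [← map_sum, Lagrange.sum_basis (node_injOn hα) Finset.univ_nonempty, theta_one]

theorem nodal_eq_map_minpoly (hα : IsGen α) :
    Lagrange.nodal Finset.univ (node (p := p) α) =
      (minpoly (ZMod p) α).map (algebraMap (ZMod p) E) := by
  classical
  have hint : IsIntegral (ZMod p) α := IsIntegral.of_finite _ _
  have htop : Algebra.adjoin (ZMod p) ({α} : Set E) = ⊤ := by
    refine eq_top_iff.mpr fun k _ => ?_
    rcases eq_or_ne k 0 with rfl | hk
    · exact zero_mem _
    obtain ⟨n, rfl⟩ := hα k hk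
    exact pow_mem (Algebra.self_mem_adjoin_singleton _ _) n
  have hdeg : (minpoly (ZMod p) α).natDegree = Fintype.card (E ≃ₐ[ZMod p] E) := by
    rw [← Nat.card_eq_fintype_card, IsGalois.card_aut_eq_finrank]
    rw [← IntermediateField.adjoin.finrank hint]
    have : (IntermediateField.adjoin (ZMod p) ({α} : Set E)) = ⊤ := by
      rw [eq_top_iff]
      intro k _
      exact IntermediateField.algebra_adjoin_le_adjoin _ _ (htop.symm ▸ Algebra.mem_top)
    rw [this, IntermediateField.finrank_top']
  have hmap : ((minpoly (ZMod p) α).map (algebraMap (ZMod p) E)).Monic := (minpoly.monic hint).map _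
  refine Polynomial.eq_of_degree_sub_lt_of_eval_index_eq (v := node (p := p) α)
    Finset.univ (node_injOn hα) ?_ fun σ _ => ?_
  · rw [Finset.card_univ]
    refine lt_of_lt_of_le (degree_sub_lt ?_ Lagrange.nodal_ne_zero ?_) ?_
    · rw [Lagrange.degree_nodal, degree_map, degree_eq_natDegree (minpoly.ne_zero hint), hdeg,
        Finset.card_univ]
    · rw [Lagrange.nodal_monic.leadingCoeff, hmap.leadingCoeff]
    · rw [Lagrange.degree_nodal, Finset.card_univ]
  · rw [Lagrange.eval_nodal_at_node (Finset.mem_univ σ), node, eval_map_algebraMap,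
      aeval_algHom_apply, minpoly.aeval, map_zero]

theorem comp_sl (hα : IsGen α) (σ : E ≃ₐ[ZMod p] E) (x : R) : SL ι σ (comp ι α σ x) := by
  classical
  refine sl_of_gen ι hα ?_
  show theta ι α x _ * ι α = ι (σ α) * theta ι α x _
  rw [← sub_eq_zero, ← theta_X_mul, ← theta_C_mul, ← map_sub, ← sub_mul]
  have hb : (X - C (σ α)) * Lagrange.basis Finset.univ (node α) σ =
      C (Lagrange.nodalWeight Finset.univ (node α) σ) * Lagrange.nodal Finset.univ (node (p := p) α) := by
    rw [Lagrange.nodal_eq_mul_nodal_erase (Finset.mem_univ σ), mul_left_comm]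
    congr 1
    simp only [Lagrange.basis, Lagrange.basisDivisor, Lagrange.nodalWeight, Lagrange.nodal,
      Finset.prod_mul_distrib, map_prod]
  rw [hb, theta_C_mul, nodal_eq_map_minpoly hα, theta_map, minpoly.aeval, map_zero, mul_zero,
    mul_zero]

/-- Uniqueness of components. -/
theorem comp_eq (hα : IsGen α) {x : R} (y : (E ≃ₐ[ZMod p] E) → R) (hy : ∀ σ : E ≃ₐ[ZMod p] E, SL ι σ (y σ))
    (hx : ∑ σ, y σ = x) (σ : E ≃ₐ[ZMod p] E) : comp ι α σ x = y σ := by
  have h := indep (M := R) ι (fun τ : E ≃ₐ[ZMod p] E => (τ : E →+* E)) Finset.univ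
    (fun a _ b _ h => AlgEquiv.ext fun k => DFunLike.congr_fun h k)
    (fun τ => comp ι α τ x - y τ) (fun k => by
      have e : ∀ τ : E ≃ₐ[ZMod p] E,
          ι ((τ : E →+* E) k) • (comp ι α τ x - y τ) = (comp ι α τ x - y τ) * ι k := fun τ => by
        rw [smul_eq_mul, sub_mul, comp_sl hα τ x k, hy τ k, mul_sub]; rfl
      simp only [e, ← Finset.sum_mul, Finset.sum_sub_distrib, sum_comp hα x, hx, sub_self, zero_mul])
    σ (Finset.mem_univ σ)
  exact sub_eq_zero.mp h

theorem comp_of_sl (hα : IsGen α) {τ : E ≃ₐ[ZMod p] E} {x : R} (hx : SL ι τ x)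
    (σ : E ≃ₐ[ZMod p] E) : comp ι α σ x = if σ = τ then x else 0 := by
  classical
  refine comp_eq hα (fun ρ => if ρ = τ then x else 0) (fun (ρ : E ≃ₐ[ZMod p] E) => ?_) (by simp) σ
  split_ifs with h
  · subst h; exact hx
  · intro k; simp

theorem comp_self_of_sl (hα : IsGen α) {τ : E ≃ₐ[ZMod p] E} {x : R} (hx : SL ι τ x) :
    comp ι α τ x = x := by
  classical
  rw [comp_of_sl hα hx, if_pos rfl]

theorem comp_of_sl_ne (hα : IsGen α) {σ τ : E ≃ₐ[ZMod p] E} {x : R} (hx : SL ι τ x) (h : σ ≠ τ) :
    comp ι α σ x = 0 := by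
  classical
  rw [comp_of_sl hα hx, if_neg h]

theorem comp_left_mul (hα : IsGen α) (σ : E ≃ₐ[ZMod p] E) (k : E) (x : R) :
    comp ι α σ (ι k * x) = ι k * comp ι α σ x :=
  comp_eq hα (fun τ => ι k * comp ι α τ x)
    (fun (τ : E ≃ₐ[ZMod p] E) l => by rw [mul_assoc, comp_sl hα τ x l, ← mul_assoc, ← map_mul, mul_comm k, map_mul,
      mul_assoc])
    (by rw [← Finset.mul_sum, sum_comp hα x]) σ

theorem comp_right_mul (hα : IsGen α) (σ : E ≃ₐ[ZMod p] E) (k : E) (x : R) :
    comp ι α σ (x * ι k) = comp ι α σ x * ι k :=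
  comp_eq hα (fun τ => comp ι α τ x * ι k)
    (fun (τ : E ≃ₐ[ZMod p] E) l => by rw [mul_assoc, ← map_mul, mul_comm k, map_mul, ← mul_assoc, comp_sl hα τ x l,
      mul_assoc])
    (by rw [← Finset.sum_mul, sum_comp hα x]) σ

end Cfsg.Agent.JordanField
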