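import Cfsg.Agent.Lib.JordanField.Semilinear

/-!
The quadratic extension generated by a commuting element, with the lifted automorphism.
-/

set_option autoImplicit false

namespace Cfsg.Agent.JordanField

open Polynomial

variable {E : Type*} [Field E] [Finite E] {A : Type*} [AddCommGroup A]
  {ι : E →+* AddMonoid.End A}

/-- A kernel vector for `φ B + ψ B'` plus a scalar, when `z` is irrational of degree two. -/
theorem exists_kernel_irred {τ : E ≃+* E} {n : ℕ} (h0 : 0 < n) (hn : τ ^ n = 1)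
    (hn1 : ∀ i, 0 < i → i < n → τ ^ i ≠ 1) {B B' z : AddMonoid.End A}
    (hB : SL ι τ B) (hB' : SL ι τ.symm B') {e c d : E} (hf : B' * B = ι (τ.symm e))
    (hz : B ^ n = z) (hzB' : B' * z = z * B') (hc : τ c = c) (hd : d = nrm τ n e)
    (hquad : z * z - ι c * z + ι d = 0) (hroot : ∀ x : E, x * x - c * x + d ≠ 0) (hA : ∃ a : A, a ≠ 0) :
    ∃ φ k : E, φ ≠ 0 ∧ ∃ v : A, v ≠ 0 ∧ (ι k + (ι φ * B + ι (τ.symm φ) * B')) v = 0 := by
  classical
  have hzι : ∀ k, ι k * z = z * ι k := by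
    intro k
    have : ∀ i, B ^ i * ι k = ι ((τ ^ i) k) * B ^ i := by
      intro i
      induction i generalizing k with
      | zero => simp
      | succ i ih => rw [pow_succ B, mul_assoc, hB, ← mul_assoc, ih, pow_succ_apply', mul_assoc]
    rw [← hz, this n, hn]; rfl
  have hzB : B * z = z * B := by rw [← hz, ← pow_succ', ← pow_succ]
  set f : E[X] := X ^ 2 - C c * X + C d with hf0
  have hfdeg : f.natDegree = 2 := by rw [hf0]; compute_degree!
  have hirr : Irreducible f := by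
    refine irreducible_of_degree_le_three_of_not_isRoot ?_ fun x hx => hroot x ?_
    · rw [hfdeg]; decide
    · rw [hf0, IsRoot, eval_add, eval_sub, eval_mul, eval_pow, eval_C, eval_C, eval_X] at hx
      rw [← pow_two]; exact hx
  have := Fact.mk hirr
  have : Module.Finite E (AdjoinRoot f) := (AdjoinRoot.powerBasis hirr.ne_zero).finite
  have : Finite (AdjoinRoot f) := Module.finite_of_finite E
  have hfroot : AdjoinRoot.root f ^ 2 - AdjoinRoot.of f c * AdjoinRoot.root f + AdjoinRoot.of f d = 0 := by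
    have := AdjoinRoot.eval₂_root f
    simpa [hf0] using this
  have hτd : τ d = d := hd ▸ nrm_fixed τ hn e
  -- the lifted automorphism and the conjugation
  let σ₀ : AdjoinRoot f →+* AdjoinRoot f :=
    AdjoinRoot.lift ((AdjoinRoot.of f).comp (τ : E →+* E)) (AdjoinRoot.root f) (by
      simp [hf0, hc, hτd, hfroot])
  let β : AdjoinRoot f →+* AdjoinRoot f :=
    AdjoinRoot.lift (AdjoinRoot.of f) (AdjoinRoot.of f c - AdjoinRoot.root f) (by
      simp [hf0]
      linear_combination hfroot)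
  let σ : AdjoinRoot f ≃+* AdjoinRoot f :=
    RingEquiv.ofBijective σ₀ (Finite.injective_iff_bijective.mp σ₀.injective)
  have hσof : ∀ k, σ (AdjoinRoot.of f k) = AdjoinRoot.of f (τ k) := fun k => by simp [σ, σ₀]
  have hσr : σ (AdjoinRoot.root f) = AdjoinRoot.root f := by simp [σ, σ₀]
  have hβof : ∀ k, β (AdjoinRoot.of f k) = AdjoinRoot.of f k := fun k => by simp [β]
  have hβr : β (AdjoinRoot.root f) = AdjoinRoot.of f c - AdjoinRoot.root f := by simp [β]
  have hσpow : ∀ i k, (σ ^ i) (AdjoinRoot.of f k) = AdjoinRoot.of f ((τ ^ i) k) := by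
    intro i
    induction i with
    | zero => intro k; rfl
    | succ i ih => intro k; rw [pow_succ_apply, ih, hσof, ← pow_succ_apply]
  have hσpr : ∀ i, (σ ^ i) (AdjoinRoot.root f) = AdjoinRoot.root f := by
    intro i
    induction i with
    | zero => rfl
    | succ i ih => rw [pow_succ_apply, ih, hσr]
  have hrep : ∀ y : AdjoinRoot f, ∃ a b,
      y = AdjoinRoot.of f a + AdjoinRoot.of f b * AdjoinRoot.root f := by
    intro y
    obtain ⟨g, rfl⟩ := AdjoinRoot.mk_surjective y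
    obtain ⟨a, b, e⟩ : ∃ a b, g %ₘ f = C a + C b * X := by
      have hm : f.Monic := by rw [hf0]; monicity!
      have := natDegree_modByMonic_lt g hm (by intro h1; rw [h1] at hfdeg; simp at hfdeg)
      rw [hfdeg] at this
      obtain ⟨b, a, e⟩ := exists_eq_X_add_C_of_natDegree_le_one (Nat.lt_succ_iff.mp this)
      exact ⟨a, b, by rw [e, add_comm]⟩
    refine ⟨a, b, ?_⟩
    have hm : f.Monic := by rw [hf0]; monicity!
    conv_lhs => rw [← modByMonic_add_div g f, e]
    simp
  have hσn : σ ^ n = 1 := RingEquiv.ext fun y => by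
    obtain ⟨a, b, rfl⟩ := hrep y
    rw [map_add, map_mul, hσpow, hσpow, hσpr, hn]; rfl
  have hσ1 : ∀ i, 0 < i → i < n → σ ^ i ≠ 1 := fun i hi0 hi e1 => hn1 i hi0 hi (RingEquiv.ext fun k =>
    (AdjoinRoot.of f).injective (by rw [← hσpow, e1]; rfl))
  -- the representation
  let ev : E[X] →+* AddMonoid.End A := eval₂RingHom' ι z fun k => hzι k
  have hev : ev f = 0 := by
    show eval₂ ι z f = 0
    rw [hf0, eval₂_add, eval₂_sub, eval₂_X_pow, eval₂_C, ← hquad, pow_two]
    congr 2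
    rw [eval₂_mul_noncomm _ _ (fun k => by rw [Commute, SemiconjBy]; exact hzι _), eval₂_C, eval₂_X]
  let ι' : AdjoinRoot f →+* AddMonoid.End A := Ideal.Quotient.lift _ ev fun g hg => by
    obtain ⟨q, rfl⟩ := Ideal.mem_span_singleton'.mp hg
    rw [map_mul, hev, mul_zero]
  have hι'of : ∀ k, ι' (AdjoinRoot.of f k) = ι k := fun k => eval₂_C ι z
  have hι'r : ι' (AdjoinRoot.root f) = z := eval₂_X ι z
  have hSB : SL ι' σ B := by
    intro y
    obtain ⟨a, b, rfl⟩ := hrep y
    simp only [map_add, map_mul, hσof, hσr, hι'of, hι'r]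
    rw [mul_add, add_mul, hB, ← mul_assoc, hB, mul_assoc, hzB, ← mul_assoc]
  have hSB' : SL ι' σ.symm B' := by
    intro y
    obtain ⟨a, b, rfl⟩ := hrep y
    have e1 : ∀ k, σ.symm (AdjoinRoot.of f k) = AdjoinRoot.of f (τ.symm k) := fun k => by
      rw [RingEquiv.symm_apply_eq, hσof, RingEquiv.apply_symm_apply]
    have e2 : σ.symm (AdjoinRoot.root f) = AdjoinRoot.root f := by
      rw [RingEquiv.symm_apply_eq, hσr]
    simp only [map_add, map_mul, e1, e2, hι'of, hι'r]
    rw [mul_add, add_mul, hB', ← mul_assoc, hB', mul_assoc, hzB', ← mul_assoc]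
  have hne0 : AdjoinRoot.root f ≠ 0 := by
    intro h1
    rw [h1] at hfroot
    simp only [ne_eq, OfNat.ofNat_ne_zero, not_false_eq_true, zero_pow, mul_zero, sub_zero,
      zero_add] at hfroot
    refine hroot 0 ?_
    have : d = 0 := (AdjoinRoot.of f).injective (by rw [hfroot, map_zero])
    simp [this]
  obtain ⟨a₀, ha₀⟩ := hA
  obtain ⟨v, -, y, hv, hNy, hBv⟩ := exists_eigen ι' h0 hσn hσ1 hSB hσr hne0 ⊤
    (fun _ _ => AddSubgroup.mem_top _) (fun _ _ _ => AddSubgroup.mem_top _)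
    (fun e1 => ha₀ (AddSubgroup.mem_bot.mp (e1 ▸ AddSubgroup.mem_top a₀)))
    (fun u _ => by rw [hz, hι'r])
  obtain ⟨s₀, s₁, hy⟩ := hrep y
  have hnrmof : ∀ x, nrm σ n (AdjoinRoot.of f x) = AdjoinRoot.of f (nrm τ n x) := fun x => by
    simp only [nrm, hσpow, map_prod]
  have hs₁ : s₁ ≠ 0 := by
    rintro rfl
    rw [map_zero, zero_mul, add_zero] at hy
    rw [hy, hnrmof] at hNy
    refine hroot (nrm τ n s₀) ((AdjoinRoot.of f).injective ?_)
    rw [map_zero, map_add, map_sub, map_mul, map_mul, hNy, ← pow_two]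
    exact hfroot
  -- the conjugate
  set yb := AdjoinRoot.of f s₀ + AdjoinRoot.of f s₁ * (AdjoinRoot.of f c - AdjoinRoot.root f) with hyb
  set m : E := s₀ * s₀ + c * (s₀ * s₁) + d * (s₁ * s₁) with hm
  have hyy : y * yb = AdjoinRoot.of f m := by
    rw [hy, hyb, hm]
    simp only [map_add, map_mul]
    linear_combination (-(AdjoinRoot.of f s₁ * AdjoinRoot.of f s₁)) * hfroot
  have hβy : β y = yb := by rw [hy, map_add, map_mul, hβof, hβof, hβr]
  have hβσ : ∀ u, β (σ u) = σ (β u) := by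
    intro u
    obtain ⟨a, b, rfl⟩ := hrep u
    simp only [map_add, map_mul, map_sub, hσof, hσr, hβof, hβr, hc]
  have hβN : ∀ i u, β ((σ ^ i) u) = (σ ^ i) (β u) := by
    intro i
    induction i with
    | zero => intro u; rfl
    | succ i ih => intro u; rw [pow_succ_apply, pow_succ_apply, hβσ, ih]
  have hNm : nrm τ n m = d := by
    refine (AdjoinRoot.of f).injective ?_
    rw [← hnrmof, ← hyy, nrm_mul, hNy]
    have : nrm σ n yb = AdjoinRoot.of f c - AdjoinRoot.root f := by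
      rw [← hβr, ← hNy, ← hβy]
      simp only [nrm, map_prod, hβN]
    rw [this]
    linear_combination -hfroot
  have hy0 : y ≠ 0 := by
    rintro rfl
    rw [nrm, Finset.prod_eq_zero (i := 0) (Finset.mem_range.mpr h0) (by simp)] at hNy
    exact hne0 hNy.symm
  have hm0 : m ≠ 0 := by
    intro e1
    rw [e1, nrm, Finset.prod_eq_zero (i := 0) (Finset.mem_range.mpr h0) (by simp)] at hNm
    exact hroot 0 (by simp [← hNm])
  obtain ⟨ψ, hψ0, hψ⟩ := exists_of_nrm_eq_one h0 hn hn1 (w := e * m⁻¹) (by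
    have h1 := nrm_mul τ n m m⁻¹
    rw [mul_inv_cancel₀ hm0, nrm_one, hNm] at h1
    rw [nrm_mul, ← hd, ← h1])
  set s := s₀ / s₁ with hsdef
  refine ⟨ψ / s₁, -(ψ * (s + τ.symm s + c)), div_ne_zero hψ0 hs₁, v, hv, ?_⟩
  have hsy : AdjoinRoot.of f (ψ / s₁) * y = AdjoinRoot.of f ψ * (AdjoinRoot.of f s + AdjoinRoot.root f) := by
    rw [hy, hsdef, mul_add, mul_add, ← mul_assoc, ← map_mul, ← map_mul, ← map_mul]
    congr 1
    · congr 1; field_simp
    · congr 2; field_simp
  have hB'v : B' v = ι' (σ.symm y⁻¹ * AdjoinRoot.of f (τ.symm e)) v := by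
    have e1 : v = ι' y⁻¹ (B v) := by
      rw [hBv, show ι' y⁻¹ (ι' y v) = ι' (y⁻¹ * y) v by rw [map_mul]; rfl, inv_mul_cancel₀ hy0, map_one]
      rfl
    conv_lhs => rw [e1]
    show (B' * ι' y⁻¹ * B) v = _
    rw [hSB', mul_assoc, hf, map_mul, hι'of]
  have hsym : AdjoinRoot.of f (τ.symm (ψ / s₁)) * (σ.symm y⁻¹ * AdjoinRoot.of f (τ.symm e)) =
      AdjoinRoot.of f ψ * (AdjoinRoot.of f (τ.symm s) + AdjoinRoot.of f c - AdjoinRoot.root f) := by
    apply σ.injective
    simp only [map_mul, map_add, map_sub, hσof, hσr, RingEquiv.apply_symm_apply, hψ, hc]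
    have hm' : y⁻¹ * AdjoinRoot.of f m = yb := by rw [← hyy, inv_mul_cancel_left₀ hy0]
    have hm'' : AdjoinRoot.of f m * AdjoinRoot.of f m⁻¹ = 1 := by
      rw [← map_mul, mul_inv_cancel₀ hm0, map_one]
    calc AdjoinRoot.of f (ψ / s₁) * (y⁻¹ * AdjoinRoot.of f e)
        = AdjoinRoot.of f (e * m⁻¹ * ψ) * (AdjoinRoot.of f (1 / s₁) * (y⁻¹ * AdjoinRoot.of f m)) := by
          simp only [div_eq_mul_inv, one_mul, map_mul]
          linear_combination -(AdjoinRoot.of f ψ * AdjoinRoot.of f s₁⁻¹ * y⁻¹ * AdjoinRoot.of f e) * hm''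
      _ = _ := by
        rw [hm', hyb, hsdef, map_mul, map_mul, ← mul_assoc]
        have hs' : AdjoinRoot.of f (1 / s₁) * AdjoinRoot.of f s₁ = 1 := by
          rw [← map_mul, one_div, inv_mul_cancel₀ hs₁, map_one]
        rw [show AdjoinRoot.of f (s₀ / s₁) = AdjoinRoot.of f s₀ * AdjoinRoot.of f (1 / s₁) by
          rw [← map_mul]; ring_nf]
        linear_combination (AdjoinRoot.of f e * AdjoinRoot.of f m⁻¹ * AdjoinRoot.of f ψ *
          (AdjoinRoot.of f c - AdjoinRoot.root f)) * hs'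
  show ι _ v + (ι (ψ / s₁) (B v) + ι (τ.symm (ψ / s₁)) (B' v)) = 0
  rw [hBv, hB'v, ← hι'of, ← hι'of, ← hι'of]
  show ι' _ v + ((ι' _ * ι' _) v + (ι' _ * ι' _) v) = 0
  rw [← map_mul, ← map_mul, hsy, hsym]
  show (ι' _ + (ι' _ + ι' _)) v = 0
  rw [← map_add, ← map_add, show ∀ u : AdjoinRoot f, u = 0 → ι' u v = 0 from
    fun u hu => by rw [hu, map_zero]; rfl]
  simp only [map_neg, map_mul, map_add]
  ring

end Cfsg.Agent.JordanField
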