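import Cfsg.Agent.Lib.JordanField.Pair

/-!
Every twist `φ B + σ⁻¹(φ) B'` of a component pair lies in the set.
-/

set_option autoImplicit false

namespace Cfsg.Agent.JordanField

variable {R : Type*} [Ring R] {p : ℕ} [Fact p.Prime] {E : Type*} [Field E] [Finite E]
  [Algebra (ZMod p) E] {ι : E →+* R} {α : E} {L : AddSubgroup R} {σ : E ≃ₐ[ZMod p] E} {B B' : R}

namespace Pair

variable (h : Pair ι α L σ B B')
include h

theorem twist_mem (hs : σ * σ ≠ 1) (φ : E) : ι φ * B + ι (σ⁻¹ φ) * B' ∈ L := by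
  classical
  have hσ : ∀ x, σ⁻¹ (σ x) = x := fun x => σ.symm_apply_apply x
  let Φ : AddSubgroup E :=
    { carrier := {φ | ι φ * B + ι (σ⁻¹ φ) * B' ∈ L}
      zero_mem' := by simp
      add_mem' := fun {a b} (ha : ι a * B + ι (σ⁻¹ a) * B' ∈ L) (hb : ι b * B + ι (σ⁻¹ b) * B' ∈ L) => by
        show ι (a + b) * B + ι (σ⁻¹ (a + b)) * B' ∈ L
        have := add_mem ha hb
        rwa [add_add_add_comm, ← add_mul, ← add_mul, ← map_add, ← map_add, ← map_add] at this
      neg_mem' := fun {a} (ha : ι a * B + ι (σ⁻¹ a) * B' ∈ L) => by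
        show ι (-a) * B + ι (σ⁻¹ (-a)) * B' ∈ L
        have := neg_mem ha
        rwa [neg_add, ← neg_mul, ← neg_mul, ← map_neg, ← map_neg, ← map_neg] at this }
  have h1 : (1 : E) ∈ Φ := by
    show ι 1 * B + ι (σ⁻¹ 1) * B' ∈ L
    simpa using h.mem
  let S : Subring E :=
    { carrier := {μ | ∀ φ ∈ Φ, μ * φ ∈ Φ}
      one_mem' := fun φ hφ => by rwa [one_mul]
      zero_mem' := fun φ _ => by rw [zero_mul]; exact zero_mem Φ
      mul_mem' := fun {a b} ha hb φ hφ => by rw [mul_assoc]; exact ha _ (hb φ hφ)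
      add_mem' := fun {a b} ha hb φ hφ => by rw [add_mul]; exact add_mem (ha φ hφ) (hb φ hφ)
      neg_mem' := fun {a} ha φ hφ => by rw [neg_mul]; exact neg_mem (ha φ hφ) }
  have hsum : α + σ α ∈ S := fun φ hφ => by
    show ι ((α + σ α) * φ) * B + ι (σ⁻¹ ((α + σ α) * φ)) * B' ∈ L
    have := h.hL.symm (h.hι α) hφ
    rw [mul_add, add_mul, mul_assoc (ι φ), mul_assoc (ι (σ⁻¹ φ)), h.sB, h.sB'] at this
    simp only [← mul_assoc, ← map_mul ι] at this
    rw [add_add_add_comm, ← add_mul, ← add_mul, ← map_add, ← map_add] at this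
    have eA : (α + σ α) * φ = α * φ + φ * σ α := by ring
    have eB : σ⁻¹ ((α + σ α) * φ) = α * σ⁻¹ φ + σ⁻¹ φ * σ⁻¹ α := by
      rw [map_mul, map_add, hσ]; ring
    rwa [eB, eA]
  have hprod : α * σ α ∈ S := fun φ hφ => by
    show ι (α * σ α * φ) * B + ι (σ⁻¹ (α * σ α * φ)) * B' ∈ L
    have := h.hL.aba (h.hι α) hφ
    rw [mul_add, add_mul, mul_assoc, mul_assoc (ι α), mul_assoc (ι φ), mul_assoc (ι (σ⁻¹ φ)), h.sB,
      h.sB'] at this
    simp only [← mul_assoc, ← map_mul ι] at this
    have eA : α * σ α * φ = α * φ * σ α := by ring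
    have eB : σ⁻¹ (α * σ α * φ) = α * σ⁻¹ φ * σ⁻¹ α := by
      rw [map_mul, map_mul, hσ]; ring
    rwa [eB, eA]
  -- `S` is everything
  have hS : ∀ x, x ∈ S := by
    let _ : Fintype ↥S := Fintype.ofFinite _
    let _ : Field ↥S := Fintype.fieldOfDomain ↥S
    have : CharP E p := charP_of_injective_algebraMap (algebraMap (ZMod p) E).injective p
    have : CharP ↥S p := (RingHom.charP_iff S.subtype Subtype.val_injective p).mpr inferInstance
    obtain ⟨m, -, hm⟩ := FiniteField.card ↥S p
    have hfixS : ∀ x ∈ S, x ^ Fintype.card ↥S = x := fun x hx =>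
      congrArg Subtype.val (FiniteField.pow_card (⟨x, hx⟩ : ↥S))
    set τ : E →+* E := iterateFrobenius E p m with hτ
    have hτd : ∀ x, τ x = x ^ Fintype.card ↥S := fun x => by rw [hm]; rfl
    have e1 : τ α + τ (σ α) = α + σ α := by rw [← map_add, hτd]; exact hfixS _ hsum
    have e2 : τ α * τ (σ α) = α * σ α := by rw [← map_mul, hτd]; exact hfixS _ hprod
    have e3 : τ α = α := by
      rcases mul_eq_zero.mp (show (τ α - α) * (τ α - σ α) = 0 by
        linear_combination (τ α) * e1 - e2) with e | e <;> rw [sub_eq_zero] at e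
      · exact e
      · exfalso
        have e4 : τ (σ α) = α := by rw [e] at e1; linear_combination e1
        rw [hτd, ← map_pow, ← hτd, e] at e4
        exact hs (algEquiv_ext h.hα e4)
    intro x
    have hfix : ∀ x : E, x ^ Fintype.card ↥S = x := by
      intro x
      rw [← hτd]
      rcases eq_or_ne x 0 with rfl | hx
      · simp
      obtain ⟨k, rfl⟩ := h.hα x hx
      rw [map_pow, e3]
    let _ : Fintype E := Fintype.ofFinite E
    by_contra hx
    have hlt : Fintype.card ↥S < Fintype.card E :=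
      Fintype.card_lt_of_injective_of_notMem _ Subtype.val_injective (b := x) (by rintro ⟨y, rfl⟩; exact hx y.2)
    have hdeg := FiniteField.X_pow_card_sub_X_natDegree_eq E (Fintype.one_lt_card (α := ↥S))
    have hle : Fintype.card E ≤ Fintype.card ↥S := by
      rw [← hdeg, ← Finset.card_univ]
      refine Polynomial.card_le_degree_of_subset_roots fun y _ => ?_
      rw [Polynomial.mem_roots (FiniteField.X_pow_card_sub_X_ne_zero E (Fintype.one_lt_card (α := ↥S)))]
      simp [hfix y]
    omega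
  have := hS φ 1 h1
  rwa [mul_one] at this

end Pair

end Cfsg.Agent.JordanField
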