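import Cfsg.Agent.Lib.JordanField.Power
import Cfsg.Agent.Lib.JordanField.Span
import Cfsg.Agent.Lib.JordanField.Extension

/-!
A component pair cannot exist in an inverse-closed set of endomorphisms.
-/

set_option autoImplicit false

namespace Cfsg.Agent.JordanField

variable {A : Type*} [AddCommGroup A] {p : ℕ} [Fact p.Prime] {E : Type*} [Field E] [Finite E]
  [Algebra (ZMod p) E] {ι : E →+* AddMonoid.End A} {α : E} {L : AddSubgroup (AddMonoid.End A)}
  {σ : E ≃ₐ[ZMod p] E} {B B' : AddMonoid.End A}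

omit [Finite E] in
theorem nrm_double (τ : E ≃+* E) (m : ℕ) (x : E) :
    nrm τ (2 * m) x = nrm (τ ^ 2) m x * τ (nrm (τ ^ 2) m x) := by
  induction m with
  | zero => simp [nrm]
  | succ m ih =>
    rw [show 2 * (m + 1) = 2 * m + 1 + 1 by ring, nrm_succ, nrm_succ, ih, nrm_succ (τ ^ 2) m]
    have h2 : ∀ u, (τ ^ 2) u = τ (τ u) := fun u => by rw [pow_two]; rfl
    simp only [map_mul, h2]
    ring

namespace Pair

variable (h : Pair ι α L σ B B')
include h

theorem nontrivial_space : ∃ a : A, a ≠ 0 := by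
  by_contra hc
  push Not at hc
  exact h.B0 (DFunLike.ext _ _ fun a => by rw [hc a, map_zero]; rfl)

/-- A kernel vector of a twist gives a contradiction. -/
theorem false_of_kernel {φ k : E} (hφ : φ ≠ 0) (hs : σ * σ = 1 → φ = 1) {v : A} (hv : v ≠ 0)
    (h0 : (ι k + (ι φ * B + ι (σ⁻¹ φ) * B')) v = 0) : False := by
  have hmem : ι φ * B + ι (σ⁻¹ φ) * B' ∈ L := by
    by_cases hs' : σ * σ = 1
    · simp only [hs hs', map_one, one_mul]
      exact h.mem
    · exact h.twist_mem hs' φ
  exact hφ (h.eq_zero_of_comb (h.hL.eq_zero_of_apply (add_mem (h.hι k) hmem) hv h0))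

theorem false : False := by
  classical
  obtain ⟨e, he, hf⟩ := h.exists_e
  obtain ⟨c, hc⟩ := h.exists_c he hf
  obtain ⟨hσc, hquad⟩ := h.quad he hf hc
  have hr0 : 0 < orderOf σ := _root_.orderOf_pos σ
  set r := orderOf σ with hr
  set z := B ^ r with hz
  set τ := σ.toRingEquiv with hτ
  set d := nrm τ r e with hd
  have hzι : ∀ k, z * ι k = ι k * z := fun k => by
    rw [hz, sl_pow h.sB r k, hr, pow_orderOf_eq_one, AlgEquiv.one_apply]
  have hzB : B * z = z * B := by rw [hz, ← pow_succ', ← pow_succ]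
  have hzB' : B' * z = z * B' := h.commute_pow_B he hf
  have hd0 : ∀ hz0 : d ≠ 0, σ * σ ≠ 1 := by
    intro hd0 hs
    refine hd0 ?_
    have : ι e = 0 := by rw [← he, h.sq hs, mul_zero]
    rw [hd, nrm, Finset.prod_eq_zero (i := 0) (Finset.mem_range.mpr hr0)]
    rcases eq_or_ne e 0 with e0 | e0
    · simp [e0]
    · exfalso
      exact h.B0 (by
        have e1 := congrArg (ι e⁻¹ * ·) this
        simp only [← map_mul, inv_mul_cancel₀ e0, map_one, mul_zero] at e1
        calc B = 1 * B := (one_mul B).symm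
          _ = 0 := by rw [e1, zero_mul])
  by_cases hroot : ∀ x : E, x * x - c * x + d ≠ 0
  · have hd' : d ≠ 0 := fun e0 => hroot 0 (by simp [e0])
    obtain ⟨φ, k, hφ, v, hv, h0⟩ := exists_kernel_irred (τ := τ) (n := r) hr0
      (toRingEquiv_pow_eq σ) (toRingEquiv_pow_ne σ) (z := z) h.sB h.sB' hf rfl hzB' hσc hd hquad hroot
      h.nontrivial_space
    exact h.false_of_kernel hφ (fun hs => absurd hs (hd0 hd')) hv h0
  push Not at hroot
  obtain ⟨x, hx⟩ := hroot
  -- a nonzero root with a kernel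
  obtain ⟨lam, hlam0, hlam, u₀, hu₀, hu₀z⟩ : ∃ lam : E, lam ≠ 0 ∧ lam * lam - c * lam + d = 0 ∧
      ∃ u : A, u ≠ 0 ∧ z u = ι lam u := by
    have hfac : ∀ y : E, y * y - c * y + d = 0 → (z - ι y) * (z - ι (c - y)) = 0 := by
      intro y hy
      have e1 : d = y * (c - y) := by linear_combination hy
      rw [e1, map_mul] at hquad
      rw [map_sub] at hquad ⊢
      rw [← hquad]
      rw [sub_mul, mul_sub, mul_sub, mul_sub, hzι c, hzι y]
      abel
    have hker : ∀ y : E, (¬ ∃ u : A, u ≠ 0 ∧ z u = ι y u) → ∀ w, (z - ι y) w = 0 → w = 0 := by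
      intro y hy w hw
      by_contra hw0
      exact hy ⟨w, hw0, sub_eq_zero.mp hw⟩
    by_cases hd' : d = 0
    · by_cases hc0 : c = 0
      · exfalso
        have hz2 : z * z = 0 := by simpa [hd', hc0] using hquad
        have e0 : e = 0 := by
          by_contra e0
          exact nrm_ne_zero τ r e0 hd'
        have hB'B : B' * B = 0 := by rw [hf, e0]; simp
        have key : ∀ n, (B + B') ^ n * B = B ^ (n + 1) := by
          intro n
          induction n with
          | zero => simp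
          | succ n ih =>
            rw [pow_succ' (B + B'), mul_assoc, ih, add_mul, pow_succ' B (n + 1)]
            conv_lhs => arg 2; rw [pow_succ', ← mul_assoc, hB'B, zero_mul]
            rw [add_zero]
        have hb0 : B + B' ≠ 0 := fun eb => one_ne_zero (h.eq_zero_of_comb (φ := 1) (ψ := 1) (k := 0)
          (by simpa using eb))
        obtain ⟨b', -, -, hb'⟩ := h.hL.inv _ h.mem hb0
        have hpow : ∀ n, b' ^ n * (B + B') ^ n = 1 := by
          intro n
          induction n with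
          | zero => simp
          | succ n ih => rw [pow_succ b', pow_succ' (B + B'), mul_assoc, ← mul_assoc b', hb', one_mul, ih]
        refine h.B0 ?_
        calc B = b' ^ (2 * r) * (B + B') ^ (2 * r) * B := by rw [hpow, one_mul]
          _ = b' ^ (2 * r) * (z * z * B) := by
            rw [mul_assoc, key, pow_succ, two_mul r, pow_add B, hz]
          _ = 0 := by rw [hz2, zero_mul, mul_zero]
      · refine ⟨c, hc0, by simp [hd'], ?_⟩
        by_contra hk
        have h1 := hfac c (by simp [hd'])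
        rw [sub_self, map_zero, sub_zero] at h1
        have hz0 : z = 0 := DFunLike.ext _ _ fun w => hker c hk (z w) (DFunLike.congr_fun h1 w)
        have e0 : e = 0 := by
          by_contra e0
          exact nrm_ne_zero τ r e0 hd'
        have hB'B : B' * B = 0 := by rw [hf, e0]; simp
        have e1 : ι c * B = 0 := by
          rw [← hc, hz0, zero_add]
          obtain ⟨n, hn⟩ : ∃ n, r = n + 1 := ⟨r - 1, by omega⟩
          rw [hn, pow_succ, mul_assoc, hB'B, mul_zero]
        exact hc0 (eq_zero_of_mul h.B0 e1)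
    · by_cases hk : ∃ u : A, u ≠ 0 ∧ z u = ι x u
      · refine ⟨x, fun e0 => hd' (by simpa [e0] using hx), hx, hk⟩
      · obtain ⟨a, ha⟩ := h.nontrivial_space
        have hy : (c - x) * (c - x) - c * (c - x) + d = 0 := by linear_combination hx
        refine ⟨c - x, fun e0 => hd' (by rw [e0] at hy; simpa using hy), hy, a, ha, ?_⟩
        exact sub_eq_zero.mp (hker x hk _ (DFunLike.congr_fun (hfac x hx) a))
  set U : AddSubgroup A := (z - ι lam).ker with hU
  have memU : ∀ u, u ∈ U ↔ z u = ι lam u := fun u => by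
    show (z - ι lam) u = 0 ↔ _
    exact sub_eq_zero
  have hUι : ∀ k, ∀ u ∈ U, ι k u ∈ U := fun k u hu => by
    rw [memU] at hu ⊢
    show (z * ι k) u = (ι lam * ι k) u
    rw [hzι, ← map_mul, mul_comm lam, map_mul]
    show ι k (z u) = ι k (ι lam u)
    rw [hu]
  have hUne : U ≠ ⊥ := fun e0 => hu₀ (AddSubgroup.mem_bot.mp (e0 ▸ (memU u₀).mpr hu₀z))
  have hlam' : σ lam = lam ∨ σ lam = c - lam := by
    have h1 : σ lam * σ lam - c * σ lam + d = 0 := by
      have := congrArg σ hlam
      rwa [map_add, map_sub, map_mul, map_mul, map_zero, hσc,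
        show σ d = d from nrm_fixed τ (toRingEquiv_pow_eq σ) e] at this
    rcases mul_eq_zero.mp (show (σ lam - lam) * (σ lam - (c - lam)) = 0 by
      linear_combination h1 - hlam) with e1 | e1
    · exact Or.inl (sub_eq_zero.mp e1)
    · exact Or.inr (sub_eq_zero.mp e1)
  by_cases hfix : σ lam = lam
  · obtain ⟨v, -, y, hv, hNy, hBv⟩ := exists_eigen (τ := τ) (n := r) ι hr0 (toRingEquiv_pow_eq σ)
      (toRingEquiv_pow_ne σ) (B := B) h.sB hfix hlam0 U (fun u hu => by
        rw [memU] at hu ⊢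
        show (z * B) u = (ι lam * B) u
        rw [← hzB, show ι lam * B = B * ι lam by rw [h.sB, hfix]]
        show B (z u) = B (ι lam u)
        rw [hu]) hUι hUne (fun u hu => (memU u).mp hu)
    have hy0 : y ≠ 0 := by
      rintro rfl
      rw [nrm, Finset.prod_eq_zero (i := 0) (Finset.mem_range.mpr hr0) (by simp)] at hNy
      exact hlam0 hNy.symm
    have hB'v : B' v = ι ((σ⁻¹ y)⁻¹ * σ⁻¹ e) v := by
      have e1 : v = ι y⁻¹ (B v) := by
        rw [hBv, show ι y⁻¹ (ι y v) = ι (y⁻¹ * y) v by rw [map_mul]; rfl, inv_mul_cancel₀ hy0, map_one]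
        rfl
      conv_lhs => rw [e1]
      show (B' * ι y⁻¹ * B) v = _
      rw [h.sB', mul_assoc, hf, ← map_mul, map_inv₀]
    refine h.false_of_kernel (φ := 1) (k := -(y + (σ⁻¹ y)⁻¹ * σ⁻¹ e)) one_ne_zero (fun _ => rfl) hv ?_
    show ι _ v + (ι 1 (B v) + ι (σ⁻¹ 1) (B' v)) = 0
    rw [hBv, hB'v, map_one σ⁻¹]
    show (ι _ + (ι 1 * ι y + ι 1 * ι _)) v = 0
    rw [← map_mul, ← map_mul, one_mul, one_mul, ← map_add, ← map_add, neg_add_cancel, map_zero]
    rfl
  · have hsw : σ lam = c - lam := hlam'.resolve_left hfix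
    have hdl : d = lam * σ lam := by rw [hsw]; linear_combination hlam
    have hd' : d ≠ 0 := by
      rw [hdl]; exact mul_ne_zero hlam0 (by simpa using hlam0)
    have h2 : σ * σ ≠ 1 := hd0 hd'
    have hsq : σ (σ lam) = lam := by rw [hsw, map_sub, hσc, hsw, sub_sub_cancel]
    have heven : ∀ n : ℕ, (σ ^ n) lam = if Even n then lam else σ lam := by
      intro n
      induction n with
      | zero => simp
      | succ n ih =>
        rw [pow_succ', AlgEquiv.mul_apply, ih]
        rcases Nat.even_or_odd n with he' | ho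
        · rw [if_pos he', if_neg (by simpa [Nat.even_add_one] using he')]
        · rw [if_neg (by simpa using ho), if_pos (by simpa [Nat.even_add_one] using ho), hsq]
    obtain ⟨m, hm⟩ : ∃ m, r = 2 * m := by
      have := heven r
      rw [hr, pow_orderOf_eq_one, AlgEquiv.one_apply] at this
      by_contra hc'
      rw [if_neg (fun he' => hc' (by obtain ⟨m, hm⟩ := he'; exact ⟨m, by omega⟩))] at this
      exact hfix this.symm
    have hm0 : 0 < m := by omega
    have hτ2 : (τ ^ 2) ^ m = 1 := by rw [← pow_mul, ← hm]; exact toRingEquiv_pow_eq σ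
    have hτ2' : ∀ i, 0 < i → i < m → (τ ^ 2) ^ i ≠ 1 := fun i hi0 him => by
      rw [← pow_mul]; exact toRingEquiv_pow_ne σ _ (by omega) (by omega)
    obtain ⟨v, -, y, hv, hNy, hBv⟩ := exists_eigen (τ := τ ^ 2) (n := m) ι hm0 hτ2 hτ2' (B := B ^ 2)
      (fun k => by
        show B ^ 2 * ι k = ι ((τ ^ 2) k) * B ^ 2
        rw [toRingEquiv_pow_apply]; exact sl_pow h.sB 2 k)
      (show (τ ^ 2) lam = lam by rw [toRingEquiv_pow_apply, heven, if_pos even_two]) hlam0 U
      (fun u hu => by
        rw [memU] at hu ⊢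
        show (z * B ^ 2) u = (ι lam * B ^ 2) u
        rw [show ι lam * B ^ 2 = B ^ 2 * ι lam by rw [sl_pow h.sB 2, heven, if_pos even_two], hz,
          ← pow_add, add_comm r 2, pow_add, ← hz]
        show (B ^ 2) (z u) = (B ^ 2) (ι lam u)
        rw [hu]) hUι hUne (fun u hu => by rw [← pow_mul, ← hm]; exact (memU u).mp hu)
    have hy0 : y ≠ 0 := by
      rintro rfl
      rw [nrm, Finset.prod_eq_zero (i := 0) (Finset.mem_range.mpr hm0) (by simp)] at hNy
      exact hlam0 hNy.symm
    obtain ⟨φ, hφ0, hφ⟩ := exists_of_nrm_eq_one (τ := τ) (n := r) hr0 (toRingEquiv_pow_eq σ)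
      (toRingEquiv_pow_ne σ) (w := -1 * (e * y⁻¹)) (by
        have hN : nrm τ r y = d := by
          rw [hm, nrm_double, hNy, hdl]; rfl
        have h1 := nrm_mul τ r y y⁻¹
        rw [mul_inv_cancel₀ hy0, nrm_one, hN] at h1
        have hneg : nrm τ r (-1) = 1 := by
          simp [nrm, hm]
        rw [nrm_mul, hneg, one_mul, nrm_mul, ← hd, ← h1])
    have hBB : B' v = ι (σ⁻¹ y⁻¹ * σ⁻¹ e) (B v) := by
      have e1 : v = ι y⁻¹ ((B ^ 2) v) := by
        rw [hBv, show ι y⁻¹ (ι y v) = ι (y⁻¹ * y) v by rw [map_mul]; rfl, inv_mul_cancel₀ hy0, map_one]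
        rfl
      conv_lhs => rw [e1]
      show (B' * ι y⁻¹ * B ^ 2) v = (ι _ * B) v
      rw [h.sB', mul_assoc, pow_two, ← mul_assoc B', hf, ← mul_assoc, ← map_mul]
    refine h.false_of_kernel (φ := φ) (k := 0) hφ0 (fun hs => absurd hs h2) hv ?_
    show ι 0 v + (ι φ (B v) + ι (σ⁻¹ φ) (B' v)) = 0
    rw [hBB]
    rw [map_zero ι]
    show (0 : A) + (ι φ + ι (σ⁻¹ φ) * ι (σ⁻¹ y⁻¹ * σ⁻¹ e)) (B v) = 0
    rw [← map_mul, ← map_add, zero_add]
    have : (0 : E) + (φ + σ⁻¹ φ * (σ⁻¹ y⁻¹ * σ⁻¹ e)) = 0 := by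
      apply σ.injective
      have hs' : ∀ u, σ (σ⁻¹ u) = u := fun u => σ.apply_symm_apply u
      rw [zero_add, map_add, map_mul, map_mul, map_zero, hs', hs', hs',
        show σ φ = -1 * (e * y⁻¹) * φ from hφ]
      ring
    rw [zero_add] at this
    rw [this, map_zero]
    rfl

end Pair

end Cfsg.Agent.JordanField
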