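import Mathlib

/-!
Inverse-closed additive subgroups containing 1: Hua's identity and its consequences.
-/

set_option autoImplicit false

namespace Cfsg.Agent.JordanField

variable {R : Type*} [Ring R]

/-- `L` contains `1` and the inverse of each of its nonzero elements. -/
structure InvClosed (L : AddSubgroup R) : Prop where
  one : (1 : R) ∈ L
  inv : ∀ l ∈ L, l ≠ 0 → ∃ l' ∈ L, l * l' = 1 ∧ l' * l = 1

namespace InvClosed

variable {L : AddSubgroup R} (hL : InvClosed L)
include hL

theorem aba {a b : R} (ha : a ∈ L) (hb : b ∈ L) : a * b * a ∈ L := by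
  rcases eq_or_ne a 0 with rfl | ha0
  · simp
  rcases eq_or_ne b 0 with rfl | hb0
  · simp
  obtain ⟨a', ha'L, haa', ha'a⟩ := hL.inv a ha ha0
  obtain ⟨b', hb'L, hbb', hb'b⟩ := hL.inv b hb hb0
  rcases eq_or_ne (b' - a) 0 with hc0 | hc0
  · rw [sub_eq_zero] at hc0
    rw [← hc0, hb'b, one_mul, hc0]
    exact ha
  obtain ⟨c', hc'L, hcc', hc'c⟩ := hL.inv _ (sub_mem hb'L ha) hc0
  set c := b' - a with hc
  -- `s = a' + c'` has inverse `a * b * c`
  have habc : a - a * b * a = a * b * c := by
    rw [hc, mul_sub, mul_assoc a b b', hbb', mul_one]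
  have hs : a' + c' = c' * b' * a' := by
    calc a' + c' = c' * c * a' + c' * (a * a') := by rw [hc'c, one_mul, haa', mul_one]
      _ = c' * (c + a) * a' := by rw [mul_add, add_mul, mul_assoc c' a a']
      _ = c' * b' * a' := by rw [hc, sub_add_cancel]
  have hinv : (a' + c') * (a * b * c) = 1 := by
    rw [hs, show c' * b' * a' * (a * b * c) = c' * (b' * ((a' * a) * b)) * c by noncomm_ring, ha'a,
      one_mul, hb'b, mul_one, hc'c]
  rcases subsingleton_or_nontrivial R with hR | hR
  · rw [Subsingleton.elim (a * b * a) 0]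
    exact zero_mem L
  have hne : a' + c' ≠ 0 := fun e => by rw [e, zero_mul] at hinv; exact zero_ne_one hinv
  obtain ⟨s', hs'L, -, hs's⟩ := hL.inv _ (add_mem ha'L hc'L) hne
  have : s' = a * b * c := by
    calc s' = s' * ((a' + c') * (a * b * c)) := by rw [hinv, mul_one]
      _ = _ := by rw [← mul_assoc, hs's, one_mul]
  rw [this, ← habc] at hs'L
  have := sub_mem ha hs'L
  rwa [sub_sub_cancel] at this

theorem sq {a : R} (ha : a ∈ L) : a * a ∈ L := by
  simpa using hL.aba ha hL.one

theorem symm {a b : R} (ha : a ∈ L) (hb : b ∈ L) : a * b + b * a ∈ L := by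
  have := sub_mem (sub_mem (hL.sq (add_mem ha hb)) (hL.sq ha)) (hL.sq hb)
  rwa [show (a + b) * (a + b) - a * a - b * b = a * b + b * a by noncomm_ring] at this

theorem pow {a : R} (ha : a ∈ L) : ∀ n : ℕ, a ^ n ∈ L := by
  intro n
  induction n using Nat.strong_induction_on with
  | _ n ih =>
    match n, ih with
    | 0, _ => simpa using hL.one
    | 1, _ => simpa using ha
    | m + 2, ih =>
      have := hL.aba ha (ih m (by omega))
      rwa [show a * a ^ m * a = a ^ (m + 2) by rw [← pow_succ' a m, ← pow_succ]] at this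

end InvClosed

theorem InvClosed.eq_zero_of_apply {A : Type*} [AddCommGroup A] {M : AddSubgroup (AddMonoid.End A)}
    (hM : InvClosed M) {y : AddMonoid.End A} (hy : y ∈ M) {v : A} (hv : v ≠ 0) (h : y v = 0) :
    y = 0 := by
  by_contra hy0
  obtain ⟨y', -, -, hy'⟩ := hM.inv y hy hy0
  have := DFunLike.congr_fun hy' v
  rw [show (y' * y) v = y' (y v) from rfl, h, map_zero] at this
  exact hv this.symm

end Cfsg.Agent.JordanField
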