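import Cfsg.Agent.Lib.JordanField.Separate

/-!
Relations satisfied by a component pair `B`, `B'`.
-/

set_option autoImplicit false

namespace Cfsg.Agent.JordanField

variable {R : Type*} [Ring R] {p : ℕ} [Fact p.Prime] {E : Type*} [Field E] [Finite E]
  [Algebra (ZMod p) E] {ι : E →+* R} {α : E}

omit [Finite E] in
theorem sl_mul {σ τ : E ≃ₐ[ZMod p] E} {x y : R} (hx : SL ι σ x) (hy : SL ι τ y) :
    SL ι (⇑(σ * τ)) (x * y) := fun k => by
  rw [mul_assoc, hy k, ← mul_assoc, hx, mul_assoc]; rfl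

omit [Finite E] in
theorem sl_pow {σ : E ≃ₐ[ZMod p] E} {x : R} (hx : SL ι σ x) : ∀ n : ℕ, SL ι (⇑(σ ^ n)) (x ^ n)
  | 0 => fun k => by simp
  | n + 1 => by rw [pow_succ, pow_succ]; exact sl_mul (sl_pow hx n) hx

omit [Finite E] in
theorem sl_left {σ : E ≃ₐ[ZMod p] E} {x : R} (hx : SL ι σ x) (k : E) : SL ι σ (ι k * x) := fun l => by
  rw [mul_assoc, hx, ← mul_assoc, ← map_mul, mul_comm k, map_mul, mul_assoc]

omit [Finite E] in
theorem sl_field (k : E) : SL ι (⇑(1 : E ≃ₐ[ZMod p] E)) (ι k) := fun l => by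
  rw [← map_mul, ← map_mul, mul_comm]; rfl

omit [Finite E] in
theorem eq_zero_of_mul {x : R} {k : E} (hx : x ≠ 0) (h : ι k * x = 0) : k = 0 := by
  by_contra hk
  refine hx ?_
  have := congrArg (ι k⁻¹ * ·) h
  simpa [← mul_assoc, ← map_mul, inv_mul_cancel₀ hk] using this

/-- A component pair. -/
structure Pair (ι : E →+* R) (α : E) (L : AddSubgroup R) (σ : E ≃ₐ[ZMod p] E) (B B' : R) : Prop where
  hL : InvClosed L
  hα : IsGen α
  hι : ∀ k, ι k ∈ L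
  hmax : IsMax ι L
  ne : σ ≠ 1
  B0 : B ≠ 0
  sB : SL ι σ B
  sB' : SL ι (⇑(σ⁻¹)) B'
  sq : σ * σ = 1 → B' = 0
  mem : B + B' ∈ L

namespace Pair

variable {L : AddSubgroup R} {σ : E ≃ₐ[ZMod p] E} {B B' : R} (h : Pair ι α L σ B B')
include h

theorem comp_sigma {x : R} (hx : SL ι (⇑(σ⁻¹)) x) (h0 : σ * σ = 1 → x = 0) :
    comp ι α σ x = 0 := by
  by_cases hs : σ * σ = 1
  · rw [h0 hs, map_zero]
  · exact comp_of_sl_ne h.hα hx fun e => hs (by nth_rw 2 [e]; exact mul_inv_cancel σ)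

theorem eq_zero_of_comb {φ ψ k : E} (hz : ι k + (ι φ * B + ι ψ * B') = 0) : φ = 0 := by
  have h1 := congrArg (comp ι α σ) hz
  rw [map_add, map_add, map_zero, comp_left_mul h.hα, comp_left_mul h.hα,
    comp_self_of_sl h.hα h.sB, h.comp_sigma h.sB' h.sq,
    comp_of_sl_ne (x := ι k) h.hα (sl_field k) h.ne, mul_zero, add_zero, zero_add] at h1
  exact eq_zero_of_mul h.B0 h1

/-- `B B'` and `B' B` are scalars. -/
theorem exists_e : ∃ e : E, B * B' = ι e ∧ B' * B = ι (σ⁻¹ e) := by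
  classical
  by_cases hs : σ * σ = 1
  · exact ⟨0, by simp [h.sq hs]⟩
  have hs' : σ⁻¹ * σ⁻¹ ≠ 1 := fun e => hs (inv_eq_one.mp (by rw [mul_inv_rev]; exact e))
  have key : ∀ k, ∃ m, ι m = ι (σ k) * (B * B') + ι (σ⁻¹ k) * (B' * B) := by
    intro k
    obtain ⟨m, hm⟩ := exists_comp_one (p := p) h.hL h.hα h.hι h.hmax (h.hL.aba h.mem (h.hι k))
    refine ⟨m, hm.trans ?_⟩
    have e : (B + B') * ι k * (B + B') = (ι (σ k) * (B * B) + ι (σ⁻¹ k) * (B' * B')) +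
        (ι (σ k) * (B * B') + ι (σ⁻¹ k) * (B' * B)) := by
      rw [add_mul B B', h.sB k, h.sB' k]
      noncomm_ring
    rw [e, map_add, map_add, comp_of_sl_ne h.hα (sl_left (sl_mul h.sB h.sB) _) (Ne.symm hs),
      comp_of_sl_ne h.hα (sl_left (sl_mul h.sB' h.sB') _) (Ne.symm hs'), add_zero, zero_add, map_add]
    congr 1
    · refine comp_self_of_sl h.hα ?_
      have := sl_left (sl_mul h.sB h.sB') (σ k)
      rwa [mul_inv_cancel] at this
    · refine comp_self_of_sl h.hα ?_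
      have := sl_left (sl_mul h.sB' h.sB) (σ⁻¹ k)
      rwa [inv_mul_cancel] at this
  obtain ⟨m₁, hm₁⟩ := key 1
  obtain ⟨m₂, hm₂⟩ := key α
  simp only [map_one, one_mul] at hm₁
  have hne : σ α - σ⁻¹ α ≠ 0 := fun e => hs (by
    have := algEquiv_ext h.hα (sub_eq_zero.mp e)
    nth_rw 2 [this]; exact mul_inv_cancel σ)
  obtain ⟨e, he⟩ : ∃ e, ι e = B * B' := by
    refine ⟨(σ α - σ⁻¹ α)⁻¹ * (m₂ - σ⁻¹ α * m₁), ?_⟩
    rw [map_mul, map_sub, map_mul, hm₂, hm₁, mul_add (ι (σ⁻¹ α)), add_sub_add_right_eq_sub,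
      ← sub_mul, ← map_sub, ← mul_assoc, ← map_mul, inv_mul_cancel₀ hne, map_one, one_mul]
  obtain ⟨f, hf⟩ : ∃ f, ι f = B' * B := ⟨m₁ - e, by rw [map_sub, hm₁, he]; abel⟩
  refine ⟨e, he.symm, ?_⟩
  have h1 : B * (B' * B) = (B * B') * B := (mul_assoc _ _ _).symm
  rw [← hf, ← he, h.sB, ← sub_eq_zero, ← sub_mul, ← map_sub] at h1
  rw [← sub_eq_zero.mp (eq_zero_of_mul h.B0 h1), ← AlgEquiv.mul_apply, inv_mul_cancel,
    AlgEquiv.one_apply, hf]

end Pair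

end Cfsg.Agent.JordanField
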