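import Cfsg.Agent.Lib.JordanField.Pair

/-!
The `r`-th powers of a component pair satisfy a quadratic relation over the field.
-/

set_option autoImplicit false

namespace Cfsg.Agent.JordanField

variable {R : Type*} [Ring R] {p : ℕ} [Fact p.Prime] {E : Type*} [Field E] [Finite E]
  [Algebra (ZMod p) E] {ι : E →+* R} {α : E} {L : AddSubgroup R} {σ : E ≃ₐ[ZMod p] E} {B B' : R}

/-- Short words in `B`, `B'`. -/
def short (ι : E →+* R) (B B' : R) (n : ℕ) : AddSubgroup R :=
  AddSubgroup.closure {x | ∃ k j, j < n ∧ (x = ι k * B ^ j ∨ x = ι k * B' ^ j)}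

omit [Finite E] in
theorem toRingEquiv_pow_apply (σ : E ≃ₐ[ZMod p] E) (i : ℕ) (x : E) :
    (σ.toRingEquiv ^ i) x = (σ ^ i) x := by
  induction i generalizing x with
  | zero => rfl
  | succ i ih => rw [pow_succ_apply', pow_succ]; exact ih _

omit [Finite E] in
theorem toRingEquiv_pow_eq (σ : E ≃ₐ[ZMod p] E) : σ.toRingEquiv ^ orderOf σ = 1 :=
  RingEquiv.ext fun x => by rw [toRingEquiv_pow_apply, pow_orderOf_eq_one]; rfl

omit [Finite E] in
theorem toRingEquiv_pow_ne (σ : E ≃ₐ[ZMod p] E) :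
    ∀ i, 0 < i → i < orderOf σ → σ.toRingEquiv ^ i ≠ 1 := fun i h0 hi e =>
  pow_ne_one_of_lt_orderOf h0.ne' hi (AlgEquiv.ext fun x => by
    rw [← toRingEquiv_pow_apply, e]; rfl)

omit [Finite E] in
theorem sl_toRingEquiv {x : R} (hx : SL ι σ x) : SL ι σ.toRingEquiv x := hx

namespace Pair

variable (h : Pair ι α L σ B B')
include h

theorem orderOf_pos : 0 < orderOf σ := _root_.orderOf_pos σ

theorem two_le_orderOf : 2 ≤ orderOf σ := by
  have := orderOf_pos (σ := σ) h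
  have : orderOf σ ≠ 1 := fun e => h.ne (orderOf_eq_one_iff.mp e)
  omega

variable {e : E} (he : B * B' = ι e) (hf : B' * B = ι (σ⁻¹ e))
include he hf

theorem pow_sub_mem (n : ℕ) :
    (B + B') ^ (n + 1) - B ^ (n + 1) - B' ^ (n + 1) ∈ short ι B B' n := by
  induction n with
  | zero => simp
  | succ n ih =>
    have step : ∀ x ∈ short ι B B' n, (B + B') * x ∈ short ι B B' (n + 1) := by
      intro x hx
      refine AddSubgroup.closure_induction ?_ ?_ ?_ ?_ hx
      · rintro _ ⟨k, j, hj, rfl | rfl⟩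
        · rw [add_mul, ← mul_assoc, ← mul_assoc, h.sB, h.sB', mul_assoc, mul_assoc]
          refine add_mem (AddSubgroup.subset_closure ⟨_, j + 1, by omega, Or.inl (by rw [pow_succ'])⟩) ?_
          rcases j with _ | i
          · exact AddSubgroup.subset_closure ⟨_, 1, by omega, Or.inr (by rw [pow_zero, mul_one, pow_one])⟩
          · rw [pow_succ', ← mul_assoc B', hf, ← mul_assoc, ← map_mul]
            exact AddSubgroup.subset_closure ⟨_, i, by omega, Or.inl rfl⟩
        · rw [add_mul, ← mul_assoc, ← mul_assoc, h.sB, h.sB', mul_assoc, mul_assoc]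
          refine add_mem ?_ (AddSubgroup.subset_closure ⟨_, j + 1, by omega, Or.inr (by rw [pow_succ'])⟩)
          rcases j with _ | i
          · exact AddSubgroup.subset_closure ⟨_, 1, by omega, Or.inl (by rw [pow_zero, mul_one, pow_one])⟩
          · rw [pow_succ', ← mul_assoc B, he, ← mul_assoc, ← map_mul]
            exact AddSubgroup.subset_closure ⟨_, i, by omega, Or.inr rfl⟩
      · simp
      · intro x y _ _ hx hy; rw [mul_add]; exact add_mem hx hy
      · intro x _ hx; rw [mul_neg]; exact neg_mem hx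
    have e1 : (B + B') ^ (n + 2) - B ^ (n + 2) - B' ^ (n + 2) =
        (B + B') * ((B + B') ^ (n + 1) - B ^ (n + 1) - B' ^ (n + 1)) +
          (ι e * B' ^ n + ι (σ⁻¹ e) * B ^ n) := by
      rw [pow_succ' (B + B') (n + 1), pow_succ' B (n + 1), pow_succ' B' (n + 1), pow_succ' B n,
        pow_succ' B' n, ← he, ← hf]
      noncomm_ring
    rw [e1]
    exact add_mem (step _ ih) (add_mem (AddSubgroup.subset_closure ⟨_, n, by omega, Or.inr rfl⟩)
      (AddSubgroup.subset_closure ⟨_, n, by omega, Or.inl rfl⟩))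

/-- `B ^ r + B' ^ r` is a scalar. -/
theorem exists_c : ∃ c : E, B ^ orderOf σ + B' ^ orderOf σ = ι c := by
  classical
  obtain ⟨n, hn⟩ : ∃ n, orderOf σ = n + 1 := ⟨orderOf σ - 1, by have := h.two_le_orderOf; omega⟩
  obtain ⟨k, hk⟩ := exists_comp_one (p := p) h.hL h.hα h.hι h.hmax (h.hL.pow h.mem (n + 1))
  have h1 : ∀ x ∈ short ι B B' n, ∃ m, ι m = comp ι α (1 : E ≃ₐ[ZMod p] E) x := by
    intro x hx
    refine AddSubgroup.closure_induction ?_ ?_ ?_ ?_ hx
    · rintro _ ⟨k, j, hj, rfl | rfl⟩ <;> rcases Nat.eq_zero_or_pos j with rfl | hj0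
      · exact ⟨k, by rw [pow_zero, mul_one, comp_self_of_sl h.hα (sl_field k)]⟩
      · exact ⟨0, by rw [map_zero, comp_of_sl_ne h.hα (sl_left (sl_pow h.sB j) k)
          (Ne.symm (pow_ne_one_of_lt_orderOf hj0.ne' (by omega)))]⟩
      · exact ⟨k, by rw [pow_zero, mul_one, comp_self_of_sl h.hα (sl_field k)]⟩
      · exact ⟨0, by rw [map_zero, comp_of_sl_ne h.hα (sl_left (sl_pow h.sB' j) k)
          (Ne.symm (pow_ne_one_of_lt_orderOf hj0.ne' (by rw [orderOf_inv]; omega)))]⟩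
    · exact ⟨0, by simp⟩
    · rintro x y _ _ ⟨m, hm⟩ ⟨m', hm'⟩; exact ⟨m + m', by rw [map_add, map_add, hm, hm']⟩
    · rintro x _ ⟨m, hm⟩; exact ⟨-m, by rw [map_neg, map_neg, hm]⟩
  obtain ⟨m, hm⟩ := h1 _ (h.pow_sub_mem he hf n)
  have c1 : comp ι α (1 : E ≃ₐ[ZMod p] E) (B ^ (n + 1)) = B ^ (n + 1) :=
    comp_self_of_sl h.hα (by
      have := sl_pow h.sB (n + 1)
      rwa [← hn, pow_orderOf_eq_one, hn] at this)
  have c2 : comp ι α (1 : E ≃ₐ[ZMod p] E) (B' ^ (n + 1)) = B' ^ (n + 1) :=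
    comp_self_of_sl h.hα (by
      have := sl_pow h.sB' (n + 1)
      rwa [← hn, inv_pow, pow_orderOf_eq_one, inv_one, hn] at this)
  refine ⟨k - m, ?_⟩
  rw [hn, map_sub, hk, hm, map_sub, map_sub, c1, c2]
  abel

theorem pow_mul_pow (n : ℕ) : B ^ n * B' ^ n = ι (nrm σ.toRingEquiv n e) := by
  induction n with
  | zero => simp [nrm]
  | succ n ih =>
    rw [pow_succ' B, pow_succ B', show B * B ^ n * (B' ^ n * B') = B * (B ^ n * B' ^ n) * B' by
      noncomm_ring, ih, h.sB, mul_assoc, he, ← map_mul, nrm_succ, mul_comm]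
    rfl

theorem commute_pow_B' : B * B' ^ orderOf σ = B' ^ orderOf σ * B := by
  obtain ⟨n, hn⟩ : ∃ n, orderOf σ = n + 1 := ⟨orderOf σ - 1, by have := h.two_le_orderOf; omega⟩
  have hs : (σ⁻¹) ^ n = σ := by
    refine mul_right_cancel (b := σ⁻¹) ?_
    rw [← pow_succ, ← hn, inv_pow, pow_orderOf_eq_one, inv_one, mul_inv_cancel]
  rw [hn]
  conv_lhs => rw [pow_succ', ← mul_assoc, he]
  rw [pow_succ, mul_assoc, hf, sl_pow h.sB' n, hs, ← AlgEquiv.mul_apply, mul_inv_cancel,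
    AlgEquiv.one_apply]

theorem commute_pow_B : B' * B ^ orderOf σ = B ^ orderOf σ * B' := by
  obtain ⟨n, hn⟩ : ∃ n, orderOf σ = n + 1 := ⟨orderOf σ - 1, by have := h.two_le_orderOf; omega⟩
  have hs : σ ^ n = σ⁻¹ := by
    refine mul_right_cancel (b := σ) ?_
    rw [← pow_succ, ← hn, pow_orderOf_eq_one, inv_mul_cancel]
  rw [hn]
  conv_lhs => rw [pow_succ', ← mul_assoc, hf]
  rw [pow_succ, mul_assoc, he, sl_pow h.sB n, hs]

/-- The quadratic relation. -/
theorem quad {c : E} (hc : B ^ orderOf σ + B' ^ orderOf σ = ι c) :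
    σ c = c ∧ B ^ orderOf σ * B ^ orderOf σ - ι c * B ^ orderOf σ +
      ι (nrm σ.toRingEquiv (orderOf σ) e) = 0 := by
  constructor
  · have h1 : B * ι c = ι c * B := by
      rw [← hc, mul_add, add_mul, h.commute_pow_B' he hf, ← pow_succ', ← pow_succ]
    rw [h.sB, ← sub_eq_zero, ← sub_mul, ← map_sub] at h1
    exact sub_eq_zero.mp (eq_zero_of_mul h.B0 h1)
  · have h2 : ι c * B ^ orderOf σ = B ^ orderOf σ * ι c := by
      rw [sl_pow h.sB (orderOf σ) c, pow_orderOf_eq_one, AlgEquiv.one_apply]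
    rw [h2, ← h.pow_mul_pow he hf, ← hc]
    noncomm_ring

end Pair

end Cfsg.Agent.JordanField
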