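import Mathlib

/-!
Semilinear endomorphisms over a finite field acting through a ring hom: independence, norms along an
automorphism, and existence of eigenvectors.
-/

set_option autoImplicit false

namespace Cfsg.Agent.JordanField

variable {E : Type*} [Field E]

/-- `x` is `σ`-semilinear for `ι`. -/
def SL {R : Type*} [Ring R] (ι : E →+* R) (σ : E → E) (x : R) : Prop :=
  ∀ k, x * ι k = ι (σ k) * x

/-- Independence of distinct automorphisms with coefficients in any module. -/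
theorem indep {ι' : Type*} {M : Type*} [AddCommGroup M] {R : Type*} [Ring R] [Module R M]
    (ι : E →+* R) (τ : ι' → E →+* E) (s : Finset ι') (hinj : Set.InjOn τ s) (x : ι' → M)
    (h : ∀ k, ∑ i ∈ s, ι (τ i k) • x i = 0) : ∀ i ∈ s, x i = 0 := by
  classical
  induction s using Finset.induction_on generalizing x with
  | empty => intro i hi; simp at hi
  | insert j s hj ih =>
    have hinj' : Set.InjOn τ s := hinj.mono (by simp)
    have hrest : ∀ i ∈ s, x i = 0 := by
      intro i hi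
      obtain ⟨k₀, hk₀⟩ : ∃ k₀, τ i k₀ ≠ τ j k₀ := by
        by_contra hc
        push Not at hc
        exact hj (hinj (Finset.mem_insert_of_mem hi) (Finset.mem_insert_self j s) (RingHom.ext hc) ▸ hi)
      have h2 : ∀ l ∈ s, ι (τ l k₀ - τ j k₀) • x l = 0 := by
        refine ih hinj' (fun l => ι (τ l k₀ - τ j k₀) • x l) fun k => ?_
        have e1 := h (k₀ * k)
        have e2 := congrArg (fun m => ι (τ j k₀) • m) (h k)
        simp only [smul_zero, Finset.smul_sum] at e2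
        rw [Finset.sum_insert hj] at e1 e2
        have e3 : ∀ l, ι (τ l k) • ι (τ l k₀ - τ j k₀) • x l =
            ι (τ l (k₀ * k)) • x l - ι (τ j k₀) • ι (τ l k) • x l := fun l => by
          simp only [smul_smul, ← map_mul, ← sub_smul, ← map_sub]
          congr 2
          rw [map_mul]; ring
        simp only [e3, Finset.sum_sub_distrib]
        rw [smul_smul, ← map_mul, ← map_mul] at e2
        have := congrArg₂ (· - ·) e1 e2
        simpa using this
      have h3 := congrArg (fun m => ι (τ i k₀ - τ j k₀)⁻¹ • m) (h2 i hi)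
      simp only [smul_zero, smul_smul, ← map_mul, inv_mul_cancel₀ (sub_ne_zero.mpr hk₀), map_one,
        one_smul] at h3
      exact h3
    intro i hi
    rcases Finset.mem_insert.mp hi with rfl | hi
    · have h1 := h 1
      rw [Finset.sum_insert hj, Finset.sum_eq_zero fun l hl => by rw [hrest l hl, smul_zero],
        add_zero, map_one, map_one, one_smul] at h1
      exact h1
    · exact hrest i hi

section Norm

/-- The product along an automorphism. -/
def nrm (τ : E ≃+* E) (n : ℕ) (y : E) : E := ∏ i ∈ Finset.range n, (τ ^ i) y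

theorem nrm_mul (τ : E ≃+* E) (n : ℕ) (x y : E) : nrm τ n (x * y) = nrm τ n x * nrm τ n y := by
  simp only [nrm, map_mul, Finset.prod_mul_distrib]

theorem pow_succ_apply (τ : E ≃+* E) (i : ℕ) (y : E) : (τ ^ (i + 1)) y = τ ((τ ^ i) y) := by
  rw [pow_succ']; rfl

theorem pow_succ_apply' (τ : E ≃+* E) (i : ℕ) (y : E) : (τ ^ (i + 1)) y = (τ ^ i) (τ y) := by
  rw [pow_succ]; rfl

theorem nrm_succ (τ : E ≃+* E) (n : ℕ) (y : E) : nrm τ (n + 1) y = y * τ (nrm τ n y) := by
  simp only [nrm, Finset.prod_range_succ', map_prod, pow_succ_apply]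
  rw [pow_zero, mul_comm]
  rfl

theorem nrm_map_period (τ : E ≃+* E) {n : ℕ} (hn : τ ^ n = 1) (y : E) :
    nrm τ n (τ y) = nrm τ n y := by
  rcases Nat.eq_zero_or_pos n with rfl | hn0
  · simp [nrm]
  obtain ⟨m, rfl⟩ := Nat.exists_eq_add_of_le' hn0
  show ∏ i ∈ Finset.range (m + 1), (τ ^ i) (τ y) = ∏ i ∈ Finset.range (m + 1), (τ ^ i) y
  rw [Finset.prod_range_succ, Finset.prod_range_succ' (fun i => (τ ^ i) y), ← pow_succ_apply', hn,
    pow_zero]
  simp only [← pow_succ_apply']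

theorem nrm_fixed (τ : E ≃+* E) {n : ℕ} (hn : τ ^ n = 1) (y : E) : τ (nrm τ n y) = nrm τ n y := by
  conv_rhs => rw [← nrm_map_period τ hn y]
  simp only [nrm, map_prod, ← pow_succ_apply, ← pow_succ_apply']

theorem nrm_one (τ : E ≃+* E) (n : ℕ) : nrm τ n 1 = 1 := by simp [nrm]

theorem nrm_ne_zero (τ : E ≃+* E) (n : ℕ) {y : E} (hy : y ≠ 0) : nrm τ n y ≠ 0 :=
  Finset.prod_ne_zero_iff.mpr fun i _ => (map_ne_zero_iff _ (τ ^ i).injective).mpr hy

variable [Finite E] {τ : E ≃+* E} {n : ℕ}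

omit [Finite E] in
theorem pow_injOn (hn1 : ∀ i, 0 < i → i < n → τ ^ i ≠ 1) :
    Set.InjOn (fun i => ((τ ^ i : E ≃+* E) : E →+* E)) (Finset.range n : Finset ℕ) := by
  intro i hi j hj h
  simp only [Finset.coe_range, Set.mem_Iio] at hi hj
  have h' : τ ^ i = τ ^ j := RingEquiv.ext fun x => DFunLike.congr_fun h x
  rcases lt_trichotomy i j with hij | hij | hij
  · exact absurd (by rw [pow_sub _ hij.le, ← h', mul_inv_cancel]) (hn1 (j - i) (by omega) (by omega))
  · exact hij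
  · exact absurd (by rw [pow_sub _ hij.le, h', mul_inv_cancel]) (hn1 (i - j) (by omega) (by omega))

/-- Hilbert 90 for a finite field. -/
theorem exists_of_nrm_eq_one (h0 : 0 < n) (hn : τ ^ n = 1) (hn1 : ∀ i, 0 < i → i < n → τ ^ i ≠ 1)
    {w : E} (hw : nrm τ n w = 1) : ∃ x, x ≠ 0 ∧ τ x = w * x := by
  classical
  have hw0 : w ≠ 0 := by
    rintro rfl
    rw [nrm, Finset.prod_eq_zero (i := 0) (Finset.mem_range.mpr h0) (by simp)] at hw
    exact zero_ne_one hw
  have hne : ∃ k, ∑ i ∈ Finset.range n, (τ ^ i) k * nrm τ i w⁻¹ ≠ 0 := by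
    by_contra hc
    push Not at hc
    have := indep (RingHom.id E) (fun i => ((τ ^ i : E ≃+* E) : E →+* E)) (Finset.range n)
      (pow_injOn hn1) (fun i => nrm τ i w⁻¹) hc 0 (Finset.mem_range.mpr h0)
    simp [nrm] at this
  obtain ⟨k, hk⟩ := hne
  refine ⟨_, hk, ?_⟩
  obtain ⟨m, rfl⟩ := Nat.exists_eq_add_of_le' h0
  have e1 : ∀ i, τ ((τ ^ i) k * nrm τ i w⁻¹) = w * ((τ ^ (i + 1)) k * nrm τ (i + 1) w⁻¹) := by
    intro i
    rw [map_mul, ← pow_succ_apply, nrm_succ]
    field_simp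
  have e2 : (τ ^ (m + 1)) k * nrm τ (m + 1) w⁻¹ = (τ ^ 0) k * nrm τ 0 w⁻¹ := by
    have : nrm τ (m + 1) w⁻¹ = 1 := by
      have := nrm_mul τ (m + 1) w w⁻¹
      rw [mul_inv_cancel₀ hw0, hw, one_mul, nrm_one] at this
      exact this.symm
    rw [hn, this]
    simp [nrm]
  rw [map_sum, Finset.mul_sum]
  simp only [e1]
  rw [Finset.sum_range_succ, e2, Finset.sum_range_succ' (fun i => w * ((τ ^ i) k * nrm τ i w⁻¹))]

/-- The norm is surjective onto the fixed field. -/
theorem exists_nrm_eq (h0 : 0 < n) (hn : τ ^ n = 1) (hn1 : ∀ i, 0 < i → i < n → τ ^ i ≠ 1)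
    {c : E} (hc : τ c = c) (hc0 : c ≠ 0) : ∃ y, y ≠ 0 ∧ nrm τ n y = c := by
  classical
  let Fix : Subgroup Eˣ :=
    { carrier := {u | τ (u : E) = u}
      one_mem' := by simp
      mul_mem' := fun {u v} (hu : τ (u : E) = u) (hv : τ (v : E) = v) => by
        show τ ((u * v : Eˣ) : E) = ((u * v : Eˣ) : E)
        rw [Units.val_mul, map_mul, hu, hv]
      inv_mem' := fun {u} (hu : τ (u : E) = u) => by
        show τ ((u⁻¹ : Eˣ) : E) = ((u⁻¹ : Eˣ) : E)
        rw [Units.val_inv_eq_inv_val, map_inv₀, hu] }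
  let N : Eˣ →* Eˣ := Units.map
    { toFun := nrm τ n, map_one' := nrm_one τ n, map_mul' := nrm_mul τ n }
  let D : Eˣ →* Eˣ :=
    { toFun := fun u => Units.map (τ : E →* E) u * u⁻¹
      map_one' := by simp
      map_mul' := fun u v => by simp only [map_mul, mul_inv_rev]; ac_rfl }
  have hDker : D.ker = Fix := by
    ext u
    rw [MonoidHom.mem_ker]
    show Units.map (τ : E →* E) u * u⁻¹ = 1 ↔ τ (u : E) = u
    rw [mul_inv_eq_one, Units.ext_iff]
    rfl
  have hle : N.ker ≤ D.range := by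
    intro u hu
    obtain ⟨x, hx0, hx⟩ := exists_of_nrm_eq_one h0 hn hn1
      (w := (u : E)) (congrArg Units.val (MonoidHom.mem_ker.mp hu))
    exact ⟨Units.mk0 x hx0, Units.ext (by
      show τ x * x⁻¹ = u
      rw [hx, mul_inv_cancel_right₀ hx0])⟩
  have hNle : N.range ≤ Fix := by
    rintro _ ⟨u, rfl⟩
    exact nrm_fixed τ hn _
  have e1 := Subgroup.card_eq_card_quotient_mul_card_subgroup N.ker
  rw [Nat.card_congr (QuotientGroup.quotientKerEquivRange N).toEquiv] at e1
  have e2 := Subgroup.card_eq_card_quotient_mul_card_subgroup D.ker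
  rw [Nat.card_congr (QuotientGroup.quotientKerEquivRange D).toEquiv, hDker] at e2
  have h3 : Nat.card ↥N.ker ≤ Nat.card ↥D.range := Subgroup.card_le_of_le hle
  have h4 : Nat.card ↥Fix ≤ Nat.card ↥N.range := by
    have hpos : 0 < Nat.card ↥D.range := Nat.card_pos
    nlinarith [Nat.mul_le_mul_left (Nat.card ↥N.range) h3]
  have heq : N.range = Fix := Subgroup.eq_of_le_of_card_ge hNle h4
  obtain ⟨y, hy⟩ : Units.mk0 c hc0 ∈ N.range := by rw [heq]; exact hc
  exact ⟨y, y.ne_zero, congrArg Units.val hy⟩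

/-- A semilinear map with `B ^ n` scalar on an invariant subgroup has an eigenvector there. -/
theorem exists_eigen {A : Type*} [AddCommGroup A] (ι : E →+* AddMonoid.End A) (h0 : 0 < n)
    (hn : τ ^ n = 1) (hn1 : ∀ i, 0 < i → i < n → τ ^ i ≠ 1) {B : AddMonoid.End A}
    (hB : SL ι τ B) {c : E} (hc : τ c = c) (hc0 : c ≠ 0) (U : AddSubgroup A)
    (hUB : ∀ u ∈ U, B u ∈ U) (hUι : ∀ k, ∀ u ∈ U, ι k u ∈ U) (hU : U ≠ ⊥)
    (hBn : ∀ u ∈ U, (B ^ n) u = ι c u) :
    ∃ v ∈ U, ∃ y, v ≠ 0 ∧ nrm τ n y = c ∧ B v = ι y v := by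
  classical
  obtain ⟨y, hy0, hy⟩ := exists_nrm_eq h0 hn hn1 hc hc0
  let T : AddMonoid.End A := ι y⁻¹ * B
  have hT : SL ι τ T := fun k => by
    show ι y⁻¹ * B * ι k = ι (τ k) * (ι y⁻¹ * B)
    rw [mul_assoc, hB k, ← mul_assoc, ← mul_assoc, ← map_mul, ← map_mul, mul_comm y⁻¹]
  have hTpow : ∀ i, T ^ i = ι (nrm τ i y⁻¹) * B ^ i := by
    intro i
    induction i with
    | zero => simp [nrm]
    | succ i ih =>
      rw [pow_succ', ih, nrm_succ, pow_succ' B, map_mul]
      show ι y⁻¹ * B * (ι (nrm τ i y⁻¹) * B ^ i) = _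
      rw [mul_assoc, ← mul_assoc B, hB]
      simp only [mul_assoc]
  have hUT : ∀ u ∈ U, T u ∈ U := fun u hu => hUι _ _ (hUB u hu)
  have hTn : ∀ u ∈ U, (T ^ n) u = u := by
    intro u hu
    rw [hTpow]
    show ι (nrm τ n y⁻¹) ((B ^ n) u) = u
    rw [hBn u hu, show ι (nrm τ n y⁻¹) (ι c u) = ι (nrm τ n y⁻¹ * c) u by rw [map_mul]; rfl, ← hy,
      ← nrm_mul, inv_mul_cancel₀ hy0, nrm_one, map_one]
    rfl
  obtain ⟨⟨u₀, hu₀⟩, hu₀'⟩ := (AddSubgroup.ne_bot_iff_exists_ne_zero).mp hU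
  obtain ⟨k, hk⟩ : ∃ k, ∑ i ∈ Finset.range n, (T ^ i) (ι k u₀) ≠ 0 := by
    by_contra hc'
    push Not at hc'
    refine hu₀' (Subtype.ext ?_)
    have hsl : ∀ i k, T ^ i * ι k = ι ((τ ^ i) k) * T ^ i := by
      intro i
      induction i with
      | zero => intro k; simp
      | succ i ih =>
        intro k
        rw [pow_succ', mul_assoc, ih, ← mul_assoc, hT, ← pow_succ_apply, mul_assoc]
    have := indep (M := A) ι (fun i => ((τ ^ i : E ≃+* E) : E →+* E)) (Finset.range n)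
      (pow_injOn hn1) (fun i => (T ^ i) u₀) (fun k => by
        refine Eq.trans (Finset.sum_congr rfl fun i _ => ?_) (hc' k)
        exact (DFunLike.congr_fun (hsl i k) u₀).symm) 0 (Finset.mem_range.mpr h0)
    simpa using this
  set v := ∑ i ∈ Finset.range n, (T ^ i) (ι k u₀) with hv
  have hTi : ∀ i, ∀ u ∈ U, (T ^ i) u ∈ U := by
    intro i
    induction i with
    | zero => intro u hu; simpa using hu
    | succ i ih => intro u hu; rw [pow_succ]; exact ih _ (hUT u hu)
  refine ⟨v, sum_mem fun i _ => hTi i _ (hUι _ _ hu₀), y, hk, hy, ?_⟩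
  have hfix : T v = v := by
    obtain ⟨m, rfl⟩ := Nat.exists_eq_add_of_le' h0
    have es : ∀ i u, T ((T ^ i) u) = (T ^ (i + 1)) u := fun i u => by rw [pow_succ']; rfl
    rw [hv, map_sum]
    simp only [es]
    rw [Finset.sum_range_succ, hTn _ (hUι _ _ hu₀),
      Finset.sum_range_succ' (fun i => (T ^ i) (ι k u₀))]
    simp
  conv_rhs => rw [← hfix]
  show B v = ι y (ι y⁻¹ (B v))
  rw [show ι y (ι y⁻¹ (B v)) = ι (y * y⁻¹) (B v) by rw [map_mul]; rfl, mul_inv_cancel₀ hy0, map_one]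
  rfl

end Norm

end Cfsg.Agent.JordanField
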