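import Cfsg.Agent.Lib.JordanField.Components
import Cfsg.Agent.Lib.JordanField.InvClosed

/-!
An element of an inverse-closed set outside the field splits off a component pair `σ`, `σ⁻¹`.
-/

set_option autoImplicit false

namespace Cfsg.Agent.JordanField

open scoped Classical

variable {R : Type*} [Ring R] {p : ℕ} [Fact p.Prime] {E : Type*} [Field E] [Finite E]
  [Algebra (ZMod p) E] {ι : E →+* R} {α : E} {L : AddSubgroup R}

/-- The functions acting on `L`. -/
noncomputable def opAlg (p : ℕ) {E : Type*} [Field E] [Algebra (ZMod p) E] (α : E) :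
    Subalgebra (ZMod p) ((E ≃ₐ[ZMod p] E) → E) :=
  Algebra.adjoin (ZMod p) {(fun σ => α + σ α), (fun σ => α * σ α)}

/-- The operator of a function on the components. -/
noncomputable def op (ι : E →+* R) (α : E) (F : (E ≃ₐ[ZMod p] E) → E) (x : R) : R :=
  ∑ σ, ι (F σ) * comp ι α σ x

theorem comp_op (hα : IsGen α) (F : (E ≃ₐ[ZMod p] E) → E) (x : R) (σ : E ≃ₐ[ZMod p] E) :
    comp ι α σ (op ι α F x) = ι (F σ) * comp ι α σ x :=
  comp_eq hα (fun τ => ι (F τ) * comp ι α τ x)
    (fun (τ : E ≃ₐ[ZMod p] E) l => by rw [mul_assoc, comp_sl hα τ x l, ← mul_assoc, ← map_mul,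
      mul_comm (F τ), map_mul, mul_assoc])
    rfl σ

theorem op_mem (hL : InvClosed L) (hα : IsGen α) (hι : ∀ k, ι k ∈ L)
    {F : (E ≃ₐ[ZMod p] E) → E} (hF : F ∈ opAlg p α) : ∀ x ∈ L, op ι α F x ∈ L := by
  induction hF using Algebra.adjoin_induction with
  | mem F hF =>
    intro x hx
    rcases hF with rfl | rfl
    · have : op ι α (fun σ : E ≃ₐ[ZMod p] E => α + σ α) x = ι α * x + x * ι α := by
        simp only [op, map_add, add_mul, Finset.sum_add_distrib]
        rw [← Finset.mul_sum, sum_comp hα x]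
        congr 1
        conv_rhs => rw [← sum_comp (p := p) (ι := ι) hα x, Finset.sum_mul]
        exact Finset.sum_congr rfl fun σ _ => (comp_sl hα σ x α).symm
      rw [this]
      exact hL.symm (hι α) hx
    · have : op ι α (fun σ : E ≃ₐ[ZMod p] E => α * σ α) x = ι α * x * ι α := by
        simp only [op, map_mul, mul_assoc]
        rw [← Finset.mul_sum]
        congr 1
        conv_rhs => rw [← sum_comp (p := p) (ι := ι) hα x, Finset.sum_mul]
        exact Finset.sum_congr rfl fun σ _ => (comp_sl hα σ x α).symm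
      rw [this]
      exact hL.aba (hι α) hx
  | algebraMap r =>
    intro x hx
    obtain ⟨m, rfl⟩ : ∃ m : ℕ, (m : ZMod p) = r := ⟨r.val, ZMod.natCast_zmod_val r⟩
    have : op ι α (algebraMap (ZMod p) ((E ≃ₐ[ZMod p] E) → E) (m : ZMod p)) x = m • x := by
      simp only [op, map_natCast, Pi.natCast_apply, ← Finset.mul_sum, sum_comp hα x, nsmul_eq_mul]
    rw [this]
    exact nsmul_mem hx m
  | add F G _ _ hF hG =>
    intro x hx
    have : op ι α (F + G) x = op ι α F x + op ι α G x := by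
      simp only [op, Pi.add_apply, map_add, add_mul, Finset.sum_add_distrib]
    rw [this]
    exact add_mem (hF x hx) (hG x hx)
  | mul F G _ _ hF hG =>
    intro x hx
    have : op ι α (F * G) x = op ι α F (op ι α G x) := by
      simp only [op]
      refine Finset.sum_congr rfl fun σ _ => ?_
      rw [show (∑ σ, ι (G σ) * comp ι α σ x) = op ι α G x from rfl, comp_op hα, Pi.mul_apply,
        map_mul, mul_assoc]
    rw [this]
    exact hF _ (hG x hx)

/-- Two automorphisms that the functions cannot separate. -/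
theorem eq_or_mul_eq_one (hα : IsGen α) {j l : E ≃ₐ[ZMod p] E}
    (h : ∀ F ∈ opAlg p α, F j = 0 → F l = 0) : j = l ∨ l * j = 1 := by
  let fj : ↥(opAlg p α) →ₐ[ZMod p] E := (Pi.evalAlgHom (ZMod p) (fun _ => E) j).comp (opAlg p α).val
  let fl : ↥(opAlg p α) →ₐ[ZMod p] E := (Pi.evalAlgHom (ZMod p) (fun _ => E) l).comp (opAlg p α).val
  have hker : ∀ F, fj F = 0 → fl F = 0 := fun F hF => h F.1 F.2 hF
  let S : IntermediateField (ZMod p) E :=
    fj.range.toIntermediateField fun x hx => fj.range.inv_mem_of_algebraic (x := ⟨x, hx⟩)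
      (Algebra.IsAlgebraic.isAlgebraic _)
  choose pre hpre using fun x : ↥S => (x.2 : (x : E) ∈ fj.range)
  replace hpre : ∀ x : ↥S, fj (pre x) = (x : E) := hpre
  have hwd : ∀ (F : ↥(opAlg p α)) (x : ↥S), fj F = (x : E) → fl (pre x) = fl F := fun F x e => by
    have := hker (pre x - F) (by rw [map_sub, hpre, e, sub_self])
    rwa [map_sub, sub_eq_zero] at this
  let g : ↥S →ₐ[ZMod p] E :=
    { toFun := fun x => fl (pre x)
      map_one' := by rw [hwd 1 1 (by simp), map_one]
      map_zero' := by rw [hwd 0 0 (by simp), map_zero]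
      map_mul' := fun x y => by rw [hwd (pre x * pre y) (x * y) (by simp [hpre]), map_mul]
      map_add' := fun x y => by rw [hwd (pre x + pre y) (x + y) (by simp [hpre]), map_add]
      commutes' := fun r => by
        rw [hwd (algebraMap _ _ r) (algebraMap _ _ r) (by rw [AlgHom.commutes]; rfl), AlgHom.commutes] }
  let τ : E →ₐ[ZMod p] E := g.liftNormal E
  have hτ : ∀ F : ↥(opAlg p α), τ (fj F) = fl F := fun F => by
    have := g.liftNormal_commutes E (⟨fj F, ⟨F, rfl⟩⟩ : ↥S)
    exact this.trans (hwd F (⟨fj F, ⟨F, rfl⟩⟩ : ↥S) rfl)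
  have hs : τ (α + j α) = α + l α := hτ ⟨_, Algebra.subset_adjoin (Set.mem_insert _ _)⟩
  have hq : τ (α * j α) = α * l α :=
    hτ ⟨_, Algebra.subset_adjoin (Set.mem_insert_of_mem _ rfl)⟩
  rw [map_add] at hs
  rw [map_mul] at hq
  have hroot : (τ α - α) * (τ α - l α) = 0 := by
    have e : τ (j α) = α + l α - τ α := by rw [← hs]; ring
    rw [e] at hq
    linear_combination -hq
  let τ' : E ≃ₐ[ZMod p] E := AlgEquiv.ofBijective τ (Algebra.IsAlgebraic.algHom_bijective τ)
  rcases mul_eq_zero.mp hroot with e | e <;> rw [sub_eq_zero] at e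
  · left
    have h1 : τ' = 1 := algEquiv_ext hα e
    have h2 : τ (j α) = j α := DFunLike.congr_fun h1 (j α)
    rw [e, h2, add_right_inj] at hs
    exact algEquiv_ext hα hs
  · right
    have h1 : τ' = l := algEquiv_ext hα e
    have h2 : τ (j α) = l (j α) := DFunLike.congr_fun h1 (j α)
    rw [e, h2, add_comm α, add_right_inj] at hs
    exact algEquiv_ext hα hs

/-- `ι` is maximal in `L`. -/
def IsMax (ι : E →+* R) (L : AddSubgroup R) : Prop :=
  ∀ x ∈ L, (∀ k, x * ι k = ι k * x) → ∃ k, ι k = x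

theorem exists_comp_one (hL : InvClosed L) (hα : IsGen α) (hι : ∀ k, ι k ∈ L) (hmax : IsMax ι L)
    {x : R} (hx : x ∈ L) : ∃ k, ι k = comp ι α (1 : E ≃ₐ[ZMod p] E) x := by
  have : ∀ j : E ≃ₐ[ZMod p] E, j ≠ 1 → ∃ F ∈ opAlg p α, F j = 0 ∧ F 1 ≠ 0 := by
    intro j hj
    by_contra hc
    push Not at hc
    rcases eq_or_mul_eq_one hα hc with e | e
    · exact hj e
    · exact hj (by rwa [one_mul] at e)
  choose F hFA hFj hF1 using this
  let G : (E ≃ₐ[ZMod p] E) → E :=
    ∏ j ∈ (Finset.univ.erase (1 : E ≃ₐ[ZMod p] E)).attach, F j.1 (Finset.ne_of_mem_erase j.2)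
  have hG : G ∈ opAlg p α := prod_mem fun j _ => hFA _ _
  have hG0 : ∀ σ, σ ≠ 1 → G σ = 0 := fun σ hσ => by
    simp only [G, Finset.prod_apply]
    exact Finset.prod_eq_zero (i := ⟨σ, Finset.mem_erase.mpr ⟨hσ, Finset.mem_univ _⟩⟩)
      (Finset.mem_attach _ _) (hFj σ hσ)
  have hG1 : G 1 ≠ 0 := by
    simp only [G, Finset.prod_apply]
    exact Finset.prod_ne_zero_iff.mpr fun j _ => hF1 _ _
  have hy : op ι α G x = ι (G 1) * comp ι α (1 : E ≃ₐ[ZMod p] E) x :=
    Finset.sum_eq_single _ (fun σ _ hσ => by rw [hG0 σ hσ, map_zero, zero_mul])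
      (fun h => absurd (Finset.mem_univ _) h)
  obtain ⟨k, hk⟩ := hmax _ (op_mem hL hα hι hG x hx) fun k => by
    rw [hy, mul_assoc, comp_sl hα 1 x k, AlgEquiv.one_apply, ← mul_assoc, ← map_mul, mul_comm (G 1),
      map_mul, mul_assoc]
  refine ⟨(G 1)⁻¹ * k, ?_⟩
  rw [map_mul, hk, hy, ← mul_assoc, ← map_mul, inv_mul_cancel₀ hG1, map_one, one_mul]

/-- A component pair outside the field. -/
theorem exists_pair (hL : InvClosed L) (hα : IsGen α) (hι : ∀ k, ι k ∈ L) (hmax : IsMax ι L)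
    {x : R} (hx : x ∈ L) (hxι : ∀ k, ι k ≠ x) :
    ∃ (σ : E ≃ₐ[ZMod p] E) (B B' : R), σ ≠ 1 ∧ B ≠ 0 ∧ SL ι σ B ∧ SL ι (⇑(σ⁻¹)) B' ∧
      (σ * σ = 1 → B' = 0) ∧ B + B' ∈ L := by
  let supp : R → Finset (E ≃ₐ[ZMod p] E) := fun y => Finset.univ.filter fun σ => comp ι α σ y ≠ 0
  have hout : ∃ n, ∃ y ∈ L, (∀ k, ι k ≠ y) ∧ (supp y).card = n := ⟨_, x, hx, hxι, rfl⟩
  obtain ⟨y, hy, hyι, hyn⟩ := Nat.find_spec hout
  have hmin : ∀ z ∈ L, (∀ k, ι k ≠ z) → (supp y).card ≤ (supp z).card := fun z hz hzι => by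
    rw [hyn]; exact Nat.find_min' hout ⟨z, hz, hzι, rfl⟩
  obtain ⟨l, hl1, hl⟩ : ∃ l, l ≠ 1 ∧ comp ι α l y ≠ 0 := by
    by_contra hc
    push Not at hc
    obtain ⟨k, hk⟩ := exists_comp_one (p := p) hL hα hι hmax hy
    refine hyι k (hk.trans ?_)
    conv_rhs => rw [← sum_comp (p := p) (ι := ι) hα y]
    exact (Finset.sum_eq_single _ (fun σ _ hσ => hc σ hσ)
      (fun h => absurd (Finset.mem_univ _) h)).symm
  have hsupp : ∀ j, comp ι α j y ≠ 0 → j = l ∨ l * j = 1 := by
    intro j hj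
    refine eq_or_mul_eq_one hα fun F hF hFj => ?_
    by_contra hFl
    have hz := op_mem hL hα hι hF y hy
    have hzι : ∀ k, ι k ≠ op ι α F y := by
      intro k hk
      refine hl ?_
      have h0 : comp ι α l (ι k) = 0 :=
        comp_of_sl_ne hα (τ := (1 : E ≃ₐ[ZMod p] E))
          (fun m => by rw [← map_mul, mul_comm, map_mul]; rfl) hl1
      rw [hk, comp_op hα] at h0
      have := congrArg (ι (F l)⁻¹ * ·) h0
      simpa [← mul_assoc, ← map_mul, inv_mul_cancel₀ hFl] using this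
    have hle := hmin _ hz hzι
    have hlt : (supp (op ι α F y)).card < (supp y).card := by
      refine Finset.card_lt_card ?_
      rw [Finset.ssubset_iff_of_subset]
      · exact ⟨j, by simp [supp, hj], by simp [supp, comp_op hα, hFj]⟩
      · intro σ hσ
        simp only [supp, Finset.mem_filter, Finset.mem_univ, true_and, comp_op hα] at hσ ⊢
        exact fun h0 => hσ (by rw [h0, mul_zero])
    omega
  by_cases hll : l * l = 1
  · refine ⟨l, comp ι α l y, 0, hl1, hl, comp_sl hα l y, fun k => by simp, fun _ => rfl, ?_⟩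
    have : comp ι α l y = y := by
      refine Eq.trans ?_ (sum_comp (p := p) (ι := ι) hα y)
      refine (Finset.sum_eq_single (s := Finset.univ) (f := fun σ : E ≃ₐ[ZMod p] E => comp ι α σ y) l (fun σ _ hσ => ?_) (fun h => absurd (Finset.mem_univ _) h)).symm
      by_contra hne
      rcases hsupp σ hne with e | e
      · exact hσ e
      · exact hσ (mul_left_cancel (e.trans hll.symm))
    rw [add_zero, this]
    exact hy
  · have hne : l ≠ l⁻¹ := fun e => hll (by nth_rw 2 [e]; exact mul_inv_cancel l)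
    refine ⟨l, comp ι α l y, comp ι α l⁻¹ y, hl1, hl, comp_sl hα l y, comp_sl hα l⁻¹ y,
      fun h => absurd h hll, ?_⟩
    have : comp ι α l y + comp ι α l⁻¹ y = y := by
      conv_rhs => rw [← sum_comp (p := p) (ι := ι) hα y]
      rw [← Finset.sum_pair (f := fun σ : E ≃ₐ[ZMod p] E => comp ι α σ y) hne]
      refine Finset.sum_subset (Finset.subset_univ _) fun σ _ hσ => ?_
      by_contra h0
      rcases hsupp σ h0 with e | e
      · exact hσ (by simp [e])
      · exact hσ (by simp [eq_inv_of_mul_eq_one_right e])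
    rw [this]
    exact hy

end Cfsg.Agent.JordanField
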